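import Cfsg.Agent.Lib.Sym9.Pre
import Cfsg.Agent.Lib.A9.Fus

/-! The model of the normaliser of `J`. -/

set_option autoImplicit false
set_option synthInstance.maxSize 2048

namespace H58.S9

open Cfsg H53.Odd H58.N9 H58.SE H58.Cd Subgroup Equiv

variable {G : Type*} [Group G] [Finite G] {J : Subgroup G}

/-- the normaliser of `J` -/
abbrev NJ (J : Subgroup G) : Subgroup G := normalizer (J : Set G)

/-- the setting -/
structure St (c : Fin 4) (J : Subgroup G) (φ : M2 → G) : Prop where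
  hom : ∀ p q, xd c p.2.1 → xd c q.2.1 → φ (mul2 p q) = φ p * φ q
  inj : ∀ p q, xd c p.2.1 → xd c q.2.1 → φ p = φ q → p = q
  memJ : ∀ g, g ∈ J ↔ ∃ u, φ (u, 0) = g
  mem : ∀ g, g ∈ NJ J ↔ ∃ p, xd c p.2.1 ∧ φ p = g
  cx : ∀ g, g * φ (x0, 0) = φ (x0, 0) * g → g ∈ NJ J
  sig : ∀ K : Subgroup G, (Nat.card K).Coprime 3 → (∀ j ∈ J, ∀ k ∈ K, j * k * j⁻¹ ∈ K) → K = ⊥

theorem w12 : ∀ w, pww w 12 = 0 := by decide +kernel

theorem w3 : ∀ w, (∀ i : Fin 3, pww (mw2 w (pww (0, 1, 0) i)) 3 = 0) →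
    ∃ i : Fin 3, mw2 w (pww (0, 1, 0) i) = 0 := by decide +kernel

theorem Pre.exists_compl {f : V27 → G} {p r : G} (h : Pre J f p r)
    (hm : ∀ g ∈ NJ J, ∃ w, Ac f g w) : ∃ C ≤ NJ J, (∀ g ∈ C, g ∈ J → g = 1) ∧
      ∀ g ∈ NJ J, ∃ u, ∃ k ∈ C, g = f u * k := by
  have : Fact (Nat.Prime 3) := ⟨by norm_num⟩
  have hp := h.norm h.pa
  have hJ : IsPGroup 3 J := IsPGroup.of_card (n := 3) h.card
  let K := J.subgroupOf (NJ J)
  have hK : IsPGroup 3 K := hJ.comap_subtype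
  have : IsMulCommutative K := ⟨⟨fun a b => Subtype.ext (Subtype.ext (by
    obtain ⟨u, hu⟩ := (h.mem _).1 a.2
    obtain ⟨v, hv⟩ := (h.mem _).1 b.2
    simpa [hu, hv] using h.comm u v))⟩⟩
  have p3 : (⟨p, hp⟩ : NJ J) ^ 3 = 1 := Subtype.ext h.p3
  obtain ⟨P, hP⟩ := (hK.to_sup_of_normal_left (H9.isPGroup_zpowers_of_pow (a := 1)
    ((pow_one 3).symm ▸ p3))).exists_le_sylow
  obtain ⟨C, hC⟩ := Cfsg.Agent.S0051.result K P (le_sup_left.trans hP) (by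
      obtain ⟨n, hn⟩ := hK.exists_card_eq
      rw [hn]
      exact Nat.Coprime.pow_left n ((Nat.Prime.coprime_iff_not_dvd (by norm_num)).2 P.not_dvd_index))
    (zpowers ⟨p, hp⟩) (le_sup_right.trans hP) (eq_bot_iff.2 fun g ⟨h1, h2⟩ => by
      obtain ⟨u, hu⟩ := (h.mem _).1 h2
      have a := h.acJ u
      rcases (mem_zpowers_three p3).1 h1 with e | e | e
      · exact e
      · rw [hu, e] at a
        exact absurd (h.uniq a h.pa) (by decide)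
      · have := h.pa.mul (hu ▸ a)
        rw [e, Subgroup.coe_subtype, InvMemClass.coe_inv, mul_inv_cancel] at this
        exact absurd (h.uniq this ac_one) (by decide)) (le_antisymm hP fun g hg => by
      obtain ⟨w, a⟩ := hm g g.2
      have key : ∀ g ∈ (P : Subgroup (NJ J)), ∀ w, Ac f g w → pww w 12 = 0 → pww w 3 = 0 :=
        fun g hg w a e => by
          obtain ⟨n, hn⟩ := P.2 ⟨g, hg⟩
          have h1 : (g : G) ^ 3 ∈ zpowers (((g : G) ^ 3) ^ 4) := mem_zpowers_pow_iff.2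
            ((Nat.Coprime.pow_right n (by norm_num)).coprime_dvd_right (orderOf_dvd_of_pow_eq_one
              (show ((g : G) ^ 3) ^ 3 ^ n = 1 by
                rw [← pow_mul, mul_comm, pow_mul, show (g : G) ^ 3 ^ n = 1 from
                  congrArg (fun x : P => ((x : NJ J) : G)) hn, one_pow])))
          obtain ⟨u, hu⟩ := (h.mem _).1 (zpowers_le.2 (show ((g : G) ^ 3) ^ 4 ∈ J from
            pow_mul (g : G) 3 4 ▸ h.cJ (e ▸ a.pow 12)) h1)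
          exact h.uniq (a.pow 3) (hu ▸ h.acJ u)
      have m := hP (mem_sup_right (mem_zpowers _))
      obtain ⟨i, hi⟩ := w3 w fun i => key _ (mul_mem hg (pow_mem m i)) _ (a.mul (h.pa.pow i)) (w12 _)
      have : g * ⟨p, hp⟩ ^ i.val ∈ K := h.cJ (hi ▸ a.mul (h.pa.pow i))
      simpa using mul_mem_sup this (inv_mem (pow_mem (mem_zpowers (⟨p, hp⟩ : NJ J)) i.val)))
  refine ⟨C.map (NJ J).subtype, map_subtype_le _, ?_, fun g hg => ?_⟩
  · rintro _ ⟨g, hg, rfl⟩ e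
    exact congrArg Subtype.val (disjoint_def.1 hC.disjoint e hg)
  · obtain ⟨⟨a, b⟩, e⟩ := hC.2 ⟨g, hg⟩
    obtain ⟨u, hu⟩ := (h.mem _).1 a.2
    exact ⟨u, b, ⟨b, b.2, rfl⟩, hu ▸ (congrArg Subtype.val e).symm⟩

theorem Pre.exists_St {f : V27 → G} {p r : G} (h : Pre J f p r)
    (sig : ∀ K : Subgroup G, (Nat.card K).Coprime 3 → (∀ j ∈ J, ∀ k ∈ K, j * k * j⁻¹ ∈ K) → K = ⊥) :
    ∃ c φ, St c J φ := by
  classical
  obtain ⟨f, h, -, hm⟩ := h.exists_mono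
  obtain ⟨C, hC, h1, h2⟩ := h.exists_compl hm
  obtain ⟨c, hc⟩ := cls (fun d => ∃ g, Ac f g (d, 0, 0)) ⟨1, ac_one⟩
    (fun d e ⟨g, a⟩ ⟨g', b⟩ => ⟨_, a.mul b⟩) fun d ⟨g, a⟩ => ⟨_, by
      have := (h.pa.mul a).mul (h.pa.pow 2)
      rwa [show mw2 (mw2 (0, 1, 0) (d, 0, 0)) (pww (0, 1, 0) 2) = (ro 1 d, 0, 0) by
        clear * -; revert d; decide +kernel] at this⟩
  have hx : ∀ w, xd c w.1 ↔ ∃ k ∈ C, Ac f k w := fun w => by
    obtain ⟨i, k, e1, e2⟩ := (by decide +kernel : ∀ w : W2, ∃ i k, mw2 w (0, i, k) = (w.1, 0, 0) ∧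
      mw2 (w.1, 0, 0) (0, w.2) = w) w
    rw [← hc]
    refine ⟨fun ⟨g, a⟩ => ?_, fun ⟨g, _, a⟩ => ⟨_, e1 ▸ a.mul (h.act0 0 i k)⟩⟩
    have b := e2 ▸ a.mul (h.act0 0 w.2.1 w.2.2)
    obtain ⟨u, k, hk, e⟩ := h2 _ (h.norm b)
    have := (h.acJ (-u)).mul b
    rw [e, h.ah.neg, inv_mul_cancel_left, (mw_zero w).2] at this
    exact ⟨k, hk, this⟩
  have hu : ∀ k ∈ C, ∀ k' ∈ C, ∀ w, Ac f k w → Ac f k' w → k = k' := fun k hk k' hk' w a b => by
    refine (inv_mul_eq_one.1 (h1 _ (mul_mem (inv_mem hk') hk) (h.cJ fun u => ?_))).symm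
    calc _ = k'⁻¹ * (k * f u * k⁻¹) * k' := by group
      _ = _ := by rw [a, ← b, ac_zero]; group
  let s : W2 → G := fun w => if e : xd c w.1 then ((hx w).1 e).choose else 1
  have hs : ∀ w, xd c w.1 → s w ∈ C ∧ Ac f (s w) w := fun w e => by
    simp only [s, dif_pos e]; exact ((hx w).1 e).choose_spec
  have s0 : s 0 = 1 := hu _ (hs 0 (xd_zero c)).1 _ (one_mem _) _ (hs 0 (xd_zero c)).2 ac_one
  have sa : ∀ p : M2, xd c p.2.1 → Ac f (f p.1 * s p.2) p.2 := fun p hp => by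
    have := (h.acJ p.1).mul (hs _ hp).2
    rwa [(mw_zero p.2).2] at this
  refine ⟨c, fun p => f p.1 * s p.2, fun p q hp hq => ?_, fun p q hp hq e => ?_,
    fun g => by simp [s0, h.mem], fun g => ⟨fun hg => ?_, fun ⟨p, hp, e⟩ => e ▸ h.norm (sa p hp)⟩,
    fun g hg => ?_, sig⟩
  · have e := hu _ (hs _ (xd_mw c _ _ hp hq)).1 _ (mul_mem (hs _ hp).1 (hs _ hq).1) _
      (hs _ (xd_mw c _ _ hp hq)).2 ((hs _ hp).2.mul (hs _ hq).2)
    simp only [mul2, sdMul]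
    rw [h.ah, e, ← (hs _ hp).2]; group
  · have e1 : p.2 = q.2 := h.uniq (sa p hp) (by rw [e]; exact sa q hq)
    rw [e1, mul_left_inj] at e
    exact Prod.ext (h.inj e) e1
  · obtain ⟨u, k, hk, rfl⟩ := h2 g hg
    obtain ⟨w, a⟩ := hm k (hC hk)
    have e := (hx w).2 ⟨k, hk, a⟩
    exact ⟨(u, w), e, by rw [hu _ (hs w e).1 k hk w (hs w e).2 a]⟩
  · obtain ⟨u, i, k, rfl⟩ := h.cx g (by simpa [s0] using hg)
    exact h.norm (h.act0 u i k)

def σ0 : P9 := swap 0 3 * swap 1 4 * swap 2 5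

theorem c_key {q : P9} (h : q * (e1 * e2 * e3) = e1 * e2 * e3 * q) :
    (∃ u, ∃ i : ZMod 3, ∃ k : ZMod 2, q = f27 e1 e2 e3 u * π0 ^ i.val * σ0 ^ k.val) ∧
    (q * e1 = e1 * q → q * π0 = π0 * q → q = 1 ∨ q = e1 * e2 * e3 ∨ q = (e1 * e2 * e3)⁻¹) := by
  simp only [f27, Cd.eq_iff (n := 9), code_mul, code_inv, code_pow, ce1, ce2, ce3, cπ]
  refine fc 9 _ (code q) ⟨(e1 * e2 * e3)⁻¹, q, rfl, rfl, (Commute.inv_right h).eq⟩ ?_
  decide +kernel

theorem exists_St {x : G} (hx : orderOf x = 3)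
    (eC : centralizer ({x} : Set G) ≃* centralizer ({e1 * e2 * e3} : Set P9))
    (hJ : J ≤ centralizer {x}) (hc : ∀ a ∈ J, ∀ b ∈ J, a * b = b * a) (h3 : ∀ j ∈ J, j ^ 3 = 1)
    (h27 : Nat.card J = 27)
    (sig : ∀ K : Subgroup G, (Nat.card K).Coprime 3 → (∀ j ∈ J, ∀ k ∈ K, j * k * j⁻¹ ∈ K) → K = ⊥) :
    ∃ c φ, St c J φ := by
  obtain ⟨m, hS, hR⟩ := exists_model eC
  have mS : ∀ {q}, q ∈ m.S ↔ q * (e1 * e2 * e3) = e1 * e2 * e3 * q := by
    rw [hS]; exact mem_centralizer_singleton_iff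
  have mf : ∀ u, f27 e1 e2 e3 u ∈ m.S := fun u => mS.2 (by revert u; decide +kernel)
  have mp : π0 ∈ m.S := mS.2 (by decide +kernel)
  have mr : σ0 ∈ m.S := mS.2 (by decide +kernel)
  have ah : AH fun u => m.f (f27 e1 e2 e3 u) := fun u v => by
    beta_reduce; rw [ah0, m.mul (mf u) (mf v)]
  have hP : Pre ah.hom.range (fun u => m.f (f27 e1 e2 e3 u)) (m.f π0) (m.f σ0) := by
    refine ⟨⟨ah, fun u v e => ?_, fun g => Iff.rfl⟩, fun u => (m.conj_iff mp (mf _) (mf _)).2 ?_,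
      fun u => (m.conj_iff mr (mf _) (mf _)).2 ?_, (m.pow_eq_one_iff mp 3).2 (by decide +kernel),
      fun g hg => ?_⟩
    · have := m.inj (mf u) (mf v) e
      rw [← pm_J, ← pm_J] at this
      exact congrArg Prod.fst (mdl0.inj this)
    · clear * -; revert u; decide +kernel
    · clear * -; revert u; decide +kernel
    obtain ⟨q, hq, rfl⟩ := m.mem_range.1 (hR ▸ mem_centralizer_singleton_iff.2 rfl : x ∈ m.range)
    have cm : ∀ r ∈ m.S, q * r = r * q := fun r hr => (m.comm_iff hq hr).1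
      (mem_centralizer_singleton_iff.1 (hR ▸ m.f_mem hr)).symm
    have e0 : f27 e1 e2 e3 x0 = e1 * e2 * e3 := by decide +kernel
    obtain ⟨r, hr, rfl⟩ := m.mem_range.1 (hR ▸ mem_centralizer_singleton_iff.2 (by
      rcases (c_key (mS.1 hq)).2 (cm _ (mS.2 (by decide +kernel))) (cm _ mp) with e | e | e
      · rw [e, m.one, mul_one, one_mul]
      · rw [e, ← e0]; exact hg
      · rw [e, ← e0, m.inv (mf _)]; exact (Commute.inv_right hg).eq) : g ∈ m.range)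
    obtain ⟨u, i, k, rfl⟩ := (c_key (mS.1 hr)).1
    exact ⟨u, i, k, by rw [m.mul (mul_mem (mf u) (pow_mem mp _)) (pow_mem mr _),
      m.mul (mf u) (pow_mem mp _), m.pow mp, m.pow mr]⟩
  obtain rfl : J = ah.hom.range := eq_of_le_of_card_ge (hP.big (fun a ha => by
      obtain ⟨q, hq, rfl⟩ := m.mem_range.1 (hR ▸ hJ ha)
      obtain ⟨u, i, k, e⟩ := hP.cx _ ((m.comm_iff hq (mf _)).2 (by
        rw [show f27 e1 e2 e3 x0 = e1 * e2 * e3 by decide +kernel]; exact mS.1 hq))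
      exact ⟨_, e ▸ hP.act0 u i k⟩) (fun _ => hP.cJ) hc h3 h27.ge) (by rw [h27, hP.card])
  exact hP.exists_St sig

end H58.S9
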