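import Cfsg.Agent.Lib.Sym9.Inv
import Cfsg.Agent.Lib.TwoFusion.QD
import Cfsg.Agent.S0205
import Cfsg.Agent.S0483
import Cfsg.Agent.S0514

/-! The case where `J` is a trivial intersection set. -/

set_option autoImplicit false
set_option synthInstance.maxSize 2048
set_option linter.unusedSectionVars false

namespace H58.S9

open Cfsg H53.Odd H58.N9 H58.SE Subgroup

variable {G : Type*} [Group G] [Finite G] {J : Subgroup G} {c : Fin 4} {φ : M2 → G}

theorem four_pg {a b : G} (a2 : a * a = 1) (b2 : b * b = 1) (ab : a * b = b * a) :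
    IsPGroup 2 (four a b a2 b2 ab) := by
  rintro ⟨_, rfl | rfl | rfl | rfl⟩ <;> refine ⟨1, Subtype.ext ?_⟩ <;>
    simp only [pow_one, pow_two, Subgroup.coe_mul, Subgroup.coe_one]
  exacts [mul_one _, a2, b2, by rw [mul_assoc, ← mul_assoc b, ← ab, mul_assoc, b2, mul_one, a2]]

theorem z3 {s y b : G} (s2 : s * s = 1) (y3 : y ^ 3 = 1) (b3 : b ^ 3 = 1) (hb : b * s = s * b)
    (e : y * b⁻¹ ∈ zpowers s ∨ b⁻¹ * y ∈ zpowers s) : y = b := by
  have hp : IsPGroup 2 (zpowers s) := H9.isPGroup_zpowers_of_pow (a := 1) ((pow_two s).trans s2)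
  have cm : ∀ x ∈ zpowers s, Commute b x := by
    rintro _ ⟨i, rfl⟩; exact (show Commute b s from hb).zpow_right i
  rcases e with e | e
  · have := (cm _ e).symm.mul_pow 3
    rw [inv_mul_cancel_right, y3, b3, mul_one] at this
    exact mul_inv_eq_one.1 (p21 hp e (n := 1) this.symm)
  · have := (cm _ e).mul_pow 3
    rw [mul_inv_cancel_left, y3, b3, one_mul] at this
    exact (inv_mul_eq_one.1 (p21 hp e (n := 1) this.symm)).symm

theorem xs (c : Fin 4) : xd c ws.1 := xd_zero c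

/-- all centralisers normalise `J` -/
structure Sb (c : Fin 4) (J : Subgroup G) (φ : M2 → G) : Prop extends St c J φ where
  all : ∀ u ≠ 0, ∀ g, g * φ (u, 0) = φ (u, 0) * g → g ∈ NJ J

namespace Sb

variable (h : Sb c J φ)
include h

theorem ti {a g : G} (ha : a ∈ J) (a1 : a ≠ 1) (e : g * a * g⁻¹ ∈ J) : g ∈ NJ J := by
  obtain ⟨u, rfl⟩ := (h.memJ a).1 ha
  obtain ⟨v, hv⟩ := (h.memJ _).1 e
  obtain ⟨k, k1, k2⟩ := h.fus hv.symm
  exact (mul_mem_cancel_left (h.all v (by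
    rintro rfl; exact SE.conj_ne_one a1 (hv.symm.trans h.one)) k k1)).1 k2

theorem uf {u : V27} (hu : u ≠ 0 ∧ kap u ≠ 3) : UF (NJ J) (φ (u, 0)) :=
  h.ufJ hu.2 fun v e => h.all v (by rintro rfl; clear * - hu e; revert u; decide +kernel)

theorem solv (N : Subgroup G) [N.Normal] (hN : N ≠ ⊥) (hs : Group.IsSolvable N) : NJ J = ⊤ := by
  obtain ⟨M, p, hp, hM, M0, -, ⟨⟨hc⟩⟩, hp', hP, -⟩ := H1.exists_elementary_abelian_normal_le N hN hs
  by_cases p3 : p = 3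
  · subst p3
    have hle : M ≤ NJ J := le_sup_left.trans (h.wcP (hP.to_sup_of_normal_left h.pg) le_sup_right)
    have hJ : M ≤ J := fun a ha => by
      obtain ⟨w, -, b⟩ := h.ex (hle ha)
      by_contra hn
      refine (big0 w (h.jf.uniq (b.pow 3) (hp' a ha ▸ ac_one)) fun e => hn (h.cJ (e ▸ b))).2.1
        fun y => (h.fix b).1 ?_
      rw [h.add, h.neg, ← b.cj]
      exact congrArg Subtype.val (hc ⟨a, ha⟩ ⟨_, by
        simpa [mul_assoc] using mul_mem ha (hM.conj_mem _ (inv_mem ha) (φ (y, 0)))⟩)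
    obtain ⟨⟨a, ha⟩, a1⟩ := ne_bot_iff_exists_ne_one.1 M0
    exact eq_top_iff.2 fun g _ => h.ti (hJ ha) (fun e => a1 (Subtype.ext e)) (hJ (hM.conj_mem a ha g))
  · have := Fact.mk hp
    obtain ⟨n, hn⟩ := hP.exists_card_eq
    exact absurd (h.sig M (hn ▸ ((Nat.coprime_primes hp Nat.prime_three).2 p3).pow_left n)
      fun j _ k hk => hM.conj_mem k hk j) M0

theorem odd (N : Subgroup G) [N.Normal] (o : Odd (Nat.card N)) : N = ⊥ ∨ NJ J = ⊤ :=
  or_iff_not_imp_left.2 fun e => h.solv N e (Cfsg.Agent.S0205.result o)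

theorem zs (P : Sylow 2 G) {u : G} (hu : u ∈ (P : Subgroup G)) (u2 : u * u = 1) (u1 : u ≠ 1)
    (iso : ∀ g, g * u * g⁻¹ ∈ (P : Subgroup G) → g * u * g⁻¹ = u) : NJ J = ⊤ := by
  have o2 := H9.orderOf_eq_two_of_mul_self u1 u2
  obtain ⟨N, _, o, e⟩ := Cfsg.Agent.S0215.result P u o2 hu iso
  refine (h.odd N o).resolve_left ?_
  rintro rfl
  refine u1 (zpowers_eq_bot.1 (h.sig (zpowers u) (by rw [Nat.card_zpowers, o2]; norm_num) ?_))
  rintro j - _ ⟨i, rfl⟩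
  have := mem_bot.1 (e j)
  rw [mul_inv_eq_one, mul_inv_eq_iff_eq_mul] at this
  rw [((show Commute j u from this.symm).zpow_right i).eq, mul_inv_cancel_right]
  exact zpow_mem (mem_zpowers u) i

theorem c3 {g : G} (hg : g ∈ NJ J) (e : g * φ (0, ws) = φ (0, ws) * g) (f : ∃ n, g ^ 3 ^ n = 1) :
    g ∈ J := by
  obtain ⟨m, -, a⟩ := h.ex hg
  exact h.memJ3 a f ((by decide +kernel : ∀ m, mw2 m ws = mw2 ws m → pww m 4 = 0) m
    (h.cmA a (h.aW (xs c)) e))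

theorem cσ (g : G) (hg : g * φ (0, ws) = φ (0, ws) * g) : g ∈ NJ J := by
  have σa := h.aW (xs c)
  have σ2 := h.sqW (xs c) (by decide)
  let B := J ⊓ centralizer {φ (0, ws)}
  have mB : ∀ {a}, a ∈ B ↔ ∃ j, ac ws j = j ∧ φ (j, 0) = a := fun {a} =>
    ⟨fun ⟨h1, h2⟩ => by
      obtain ⟨j, rfl⟩ := (h.memJ a).1 h1
      exact ⟨j, (h.fix σa).1 (mem_centralizer_singleton_iff.1 h2).symm, rfl⟩,
    fun ⟨j, e, f⟩ => f ▸ ⟨h.mJ j, mem_centralizer_singleton_iff.2 ((h.fix σa).2 e).symm⟩⟩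
  have cB : ∀ {a}, a ∈ B → a * φ (0, ws) = φ (0, ws) * a := fun ha =>
    mem_centralizer_singleton_iff.1 ha.2
  have wB : φ ((1, 1, 0), 0) ∈ B := mB.2 ⟨_, by decide, rfl⟩
  have w1 : φ ((1, 1, 0), 0) ≠ 1 := h.ne (by decide)
  have k1 : ∀ v ∈ B, ∀ g, g * v * g⁻¹ * v⁻¹ ∈ zpowers (φ (0, ws)) → g * v * g⁻¹ = v := fun v hv g e =>
    z3 σ2 (SE.conj_cube (h.cubeJ hv.1)) (h.cubeJ hv.1) (cB hv) (Or.inl e)
  have k2 : ∀ v ∈ B, v ∉ zpowers (φ (0, ws)) → ∀ g, g * v * g⁻¹ * v⁻¹ ∈ zpowers (φ (0, ws)) →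
      g ∈ NJ J := fun v hv v1 g e =>
    h.ti hv.1 (fun e => v1 (e ▸ one_mem _)) ((k1 v hv g e).symm ▸ hv.1)
  have k3 : ∀ b ∈ B, ∀ g, b⁻¹ * (g * φ ((1, 1, 0), 0) * g⁻¹) ∈ zpowers (φ (0, ws)) → g ∈ NJ J :=
    fun b hb g e => h.ti wB.1 w1
      (z3 σ2 (SE.conj_cube (h.cube _)) (h.cubeJ hb.1) (cB hb) (Or.inr e) ▸ hb.1)
  have S : S9 (φ (0, ws)) (φ ((1, 1, 0), 0)) (φ ((0, 0, 1), 0)) B (NJ J) := by
    refine ⟨inf_le_right, fun _ a _ b => h.commJ a.1 b.1, fun _ a => h.cubeJ a.1, fun g hg e f =>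
      ⟨h.c3 (h.ti wB.1 w1 (e _ wB).1) hg f, mem_centralizer_singleton_iff.2 hg⟩, wB,
      mB.2 ⟨_, by decide, rfl⟩, fun a ha => ?_, fun u e => ?_, h.mW (xs c),
      fun _ a => le_normalizer a.1, fun g _ e => (e _ wB).elim fun b e => k3 b e.1 g e.2⟩
    · obtain ⟨j, e, rfl⟩ := mB.1 ha
      obtain ⟨u, rfl⟩ := (by decide +kernel : ∀ j, ac ws j = j → ∃ u : V9,
        j = u.1.val • (1, 1, 0) + u.2.val • (0, 0, 1)) j e
      exact ⟨u, by rw [h.f9J, inv_mul_cancel]; exact one_mem _⟩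
    · rw [h.f9J] at e
      have := h.injJ.1 ((z3 (b := 1) σ2 (h.cube _) (one_pow 3) (by simp) (Or.inl (by simpa using e))).trans
        h.one.symm)
      clear * - this; revert u; decide +kernel
  have wz : φ ((1, 1, 0), 0) ∉ zpowers (φ (0, ws)) := fun f =>
    absurd (S.inj (1, 0) (by rwa [f9_10])) (by decide)
  have act : ∀ g ∈ NJ J, g * φ (0, ws) = φ (0, ws) * g → ∃ m, (xd c m.1 ∧ mw2 m ws = mw2 ws m) ∧
      A φ g m := fun g hg e => (h.ex hg).imp fun m a => ⟨⟨a.1, h.cmA a.2 σa e⟩, a.2⟩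
  have dv : ∀ g s, g * φ (0, ws) = φ (0, ws) * g → s * φ (0, ws) = φ (0, ws) * s → ∀ m (k : Fin 2),
      A φ g (mw2 m (pww ws k)) → A φ s m → ∃ a ∈ B, (a * s)⁻¹ * g ∈ zpowers (φ (0, ws)) :=
    fun g s e f m k a b => ⟨_, ⟨h.div' a (b.mul (σa.pow k)), mem_centralizer_singleton_iff.2
      (Commute.mul_left e (Commute.mul_left f ((Commute.refl _).pow_left k)).inv_left)⟩, by
        simp [mul_assoc]⟩
  suffices e : S9.Con (φ (0, ws)) B (NJ J) by
    obtain ⟨Y, -, -, -, y1, y2⟩ := e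
    obtain ⟨u, hu, e⟩ := (y1 g hg).2
    exact (mul_mem_cancel_left (y2 _ S.cH (fun v hv v1 u _ => k2 v hv v1 u) hu)).1 e
  rcases (show (c = 0 ∨ c = 2) ∨ c = 1 ∨ c = 3 by clear * -; revert c; decide) with hc | rfl | rfl
  · refine S.three (fun g hg e => ?_) (fun n hn e a ha => ?_) (fun g _ ⟨b, hb, e⟩ =>
      k3 b (zpowers_le.2 wB hb) g e) fun v hv v1 q _ e => by
        rw [show 1296 = 36 * 36 from rfl, pow_mul, h.pow36 (k2 v hv v1 q e), one_pow]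
    · obtain ⟨m, hm, a⟩ := act g (k2 _ wB wz g e) hg
      obtain ⟨k, rfl⟩ := (by decide +kernel : ∀ (c : Fin 4) m, c = 0 ∨ c = 2 → xd c m.1 ∧
        mw2 m ws = mw2 ws m → ac m (1, 1, 0) = (1, 1, 0) → ∃ k : Fin 2, m = mw2 0 (pww ws k)) c m hc hm
        ((h.fix a).1 (mul_inv_eq_iff_eq_mul.1 (k1 _ wB g e)))
      simpa using dv g 1 hg (by simp) 0 k a ac_one
    · obtain ⟨m, hm, b⟩ := act n hn e
      obtain ⟨j, e, rfl⟩ := mB.1 ha
      rw [b.cj, ← h.neg, ← h.add, h.zp]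
      clear * - hc hm e; revert c m j; decide +kernel
  · have a := h.aW (w := wn) (by decide)
    refine s9two S (h.cmW (by decide) (xs 1) (by decide)) ((pow_two _).trans (h.sqW (w := wn)
      (by decide) (by decide))) (fun j hj => ?_) fun g hg e => ?_
    · obtain ⟨j, -, rfl⟩ := mB.1 hj
      rw [a.cj, ← h.add, show j + ac wn j = 0 by clear * -; revert j; decide +kernel, h.one]
      exact one_mem _
    · obtain ⟨m, hm, b⟩ := act g hg e
      have key : ∀ g m, A φ g m → (∀ j, ac ws j = j → ac m j = j) →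
          ∀ a ∈ B, g * a * g⁻¹ * a⁻¹ ∈ zpowers (φ (0, ws)) := fun g m b e a ha => by
        obtain ⟨j, f, rfl⟩ := mB.1 ha
        rw [b.cj, e j f, mul_inv_cancel]; exact one_mem _
      exact ((by decide +kernel : ∀ m, xd 1 m.1 ∧ mw2 m ws = mw2 ws m →
        (∀ j, ac ws j = j → ac (mw2 m wn) j = j) ∨ ∀ j, ac ws j = j → ac m j = j) m hm).imp
        (key _ _ (b.mul a)) (key _ _ b)
  · have a := h.aW (w := wv) (h.x3 _)
    have a' := h.aW (w := we) (h.x3 _)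
    have c1 := h.cmW (w := wv) (h.x3 _) (xs 3) (by decide)
    have c2 := h.cmW (w := we) (h.x3 _) (xs 3) (by decide)
    refine S.nine c1 c2 (h.mW (h.x3 _)) (h.mW (h.x3 _))
      ((pow_two _).trans (h.sqW (h.x3 _) (by decide))) ((pow_two _).trans (h.sqW (h.x3 _) (by decide)))
      (h.cmW (h.x3 _) (h.x3 _) (by decide)) (by rw [a.cj, ← h.neg]; rfl) (by rw [a.cj]; rfl)
      (by rw [a'.cj]; rfl) (by rw [a'.cj, ← h.neg]; rfl) (fun g hg e => ?_) (fun g _ => k2 _ wB wz g)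
      fun v hv v1 => ⟨zpowers (φ (0, ws)), zpowers_le.2 (mem_centralizer_singleton_iff.2 rfl),
        mem_zpowers _, fun o ho => ⟨pow_mem ho 4, ?_⟩, fun g hg e => ⟨?_, g, k2 v hv v1 g e, by simp⟩⟩
    · obtain ⟨m, hm, b⟩ := act g hg e
      obtain ⟨i, k, rfl⟩ := (by decide +kernel : ∀ m, mw2 m ws = mw2 ws m → ∃ i : H36.W4, ∃ k : Fin 2,
        m = mw2 (mw2 (pww wv i.1.val) (pww we i.2.val)) (pww ws k)) m hm.2
      obtain ⟨x, hx, f⟩ := dv g _ e (Commute.mul_left (Commute.pow_left c1 _) (Commute.pow_left c2 _))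
        _ k b ((a.pow i.1.val).mul (a'.pow i.2.val))
      exact ⟨x, hx, i, f⟩
    · obtain ⟨i, rfl⟩ := ho
      rw [← ((show Commute v _ from cB hv).zpow_right i).eq]; simp
    · rintro _ ⟨i, rfl⟩
      rw [← conj_zpow, hg, mul_inv_cancel_right]
      exact zpow_mem (mem_zpowers _) i

end Sb

end H58.S9
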