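import Cfsg.Agent.Lib.Sym9.Fus
import Cfsg.Agent.Lib.A9.Good
import Cfsg.Agent.Lib.Odd.NineRed

/-! The centralisers of the elements of `J`. -/

set_option autoImplicit false
set_option synthInstance.maxSize 2048
set_option linter.unusedSectionVars false

namespace H58.S9

open Cfsg H53.Odd H58.N9 Subgroup

theorem two_gen {L : Type*} [Group L] [Finite L] (P : Sylow 3 L)
    (hc : ∀ a ∈ (P : Subgroup L), ∀ b ∈ (P : Subgroup L), a * b = b * a)
    (h3 : ∀ a ∈ (P : Subgroup L), a ^ 3 = 1) (hn : ¬ IsCyclic (P : Subgroup L)) {t : L}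
    (t2 : t ^ 2 = 1) (inv : ∀ d ∈ (P : Subgroup L), t * d * t⁻¹ = d⁻¹)
    (hb : ∀ b ∈ normalizer ((P : Subgroup L) : Set L), b * t ∈ centralizer ((P : Subgroup L) : Set L) ∨
      b ∈ centralizer ((P : Subgroup L) : Set L)) : ∃ X : Subgroup L, X.Normal ∧
    (Nat.card X).Coprime 3 ∧ ∀ g, ∃ x ∈ X, x * g ∈ normalizer ((P : Subgroup L) : Set L) := by
  have : Fact (Nat.Prime 3) := ⟨by norm_num⟩
  rcases Cfsg.Agent.S3347.result 3 (by norm_num) P ⟨⟨fun a b => Subtype.ext (hc _ a.2 _ b.2)⟩⟩ hn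
    (relIndex_eq_two_iff_exists_notMem_and.2 ⟨t, SE.mem_normalizer_of_le fun d hd =>
      (inv d hd).symm ▸ inv_mem hd, fun e => hn (by
        rw [show (P : Subgroup L) = ⊥ from eq_bot_iff.2 fun d hd => by
          by_contra d1
          exact ne_inv_three (h3 _ hd) d1 (by rw [← inv d hd, ← e d hd]; simp)]
        infer_instance), hb⟩) with hr | hr
  · refine absurd ((H4.pResidual_sup_sylow P).symm.trans (sup_eq_left.2 fun d hd => ?_)).symm hr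
    have ht : t ∈ pResidual 3 L := H4.mem_pResidual_of_coprime
      ((show Nat.Coprime 2 3 by norm_num).coprime_dvd_left (orderOf_dvd_of_pow_eq_one t2))
    have := mul_mem ht ((H4.pResidual_normal 3 L).conj_mem _ (inv_mem ht) d)
    rwa [← mul_assoc, ← mul_assoc, inv d hd, ← mul_inv_rev, ← inv_eq_sq (h3 d hd), inv_inv] at this
  have h2 := H76.relP_ups (p := 3) (G := L) 0
  have h4 := H76.relQ_ups (p := 3) (G := L) 1
  rw [H76.pLengthLE_iff.1 hr] at h4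
  rw [show 2 * 0 + 1 = 1 from rfl, H76.ups_one, ← QuotientGroup.ker_mk' (pPrimeCore 3 L),
    H76.relP_ker_iff] at h2
  have h5 : (P : Subgroup L) ≤ H76.ups 3 L (2 * 0 + 2) := fun d hd => by
    obtain ⟨n, hn, hn'⟩ := h4 d trivial
    exact H76.mem_of_pow_mem_of_coprime hn hn' (by rw [h3 d hd]; exact one_mem _)
  have := Normal.map (inferInstance : (H76.ups 3 L (2 * 0 + 2)).Normal) _
    (QuotientGroup.mk'_surjective (pPrimeCore 3 L))
  refine ⟨pPrimeCore 3 L, inferInstance, H1.coprime_card_pPrimeCore, fun g => ?_⟩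
  obtain ⟨m, hm, n, hn, rfl⟩ := mem_sup_of_normal_left.1 (show g ∈ H76.ups 3 L (2 * 0 + 2) ⊔ _ by
    rw [sup_comm, P.normalizer_sup_eq_top' h5]; trivial)
  obtain ⟨d, hd, e⟩ := h2.le_sylow_of_normal (P.mapSurjective (QuotientGroup.mk'_surjective _))
    ⟨m, hm, rfl⟩
  exact ⟨d * m⁻¹, (QuotientGroup.eq_one_iff _).1 (by simpa [mul_inv_eq_one] using e),
    by simpa [mul_assoc] using mul_mem (le_normalizer hd) hn⟩

variable {G : Type*} [Group G] [Finite G] {J : Subgroup G} {c : Fin 4} {φ : M2 → G}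

theorem s9two {z w y : G} {B H : Subgroup G} (h : S9 z w y B H) {t : G} (tc : t * z = z * t)
    (t2 : t ^ 2 = 1) (inv : ∀ a ∈ B, a * (t * a * t⁻¹) ∈ zpowers z)
    (hm : ∀ g ∈ H, g * z = z * g → (∀ a ∈ B, g * t * a * (g * t)⁻¹ * a⁻¹ ∈ zpowers z) ∨
      ∀ a ∈ B, g * a * g⁻¹ * a⁻¹ ∈ zpowers z) : S9.Con z B H := by
  obtain ⟨P, hP, hN, hT⟩ := h.exists_P
  have mC : ∀ {g}, g ∈ centralizer ({z} : Set G) ↔ g * z = z * g := mem_centralizer_singleton_iff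
  have h3 : ∀ x ∈ (P : Subgroup (Sc z)), x ^ 3 = 1 := by
    rw [hP]
    rintro _ ⟨a, ha, rfl⟩
    rw [← map_pow, show a ^ 3 = 1 from Subtype.ext (h.cube _ ha), map_one]
  have hA := AH_f9 (h.cube w h.hw) (h.cube y h.hy) (h.comm w h.hw y h.hy)
  have ne : ∀ u v, ((⟨f9 w y u, h.le (h.mA u)⟩ : centralizer ({z} : Set G)) : Sc z) =
      (⟨f9 w y v, h.le (h.mA v)⟩ : centralizer ({z} : Set G)) → u = v := fun u v e => by
    have := mk_eq.1 e
    rw [← hA.neg, ← hA] at this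
    exact neg_add_eq_zero.1 (h.inj _ this)
  have cen : ∀ g : centralizer ({z} : Set G), (∀ a ∈ B, g * a * (g : G)⁻¹ * a⁻¹ ∈ zpowers z) →
      (g : Sc z) ∈ centralizer ((P : Subgroup (Sc z)) : Set (Sc z)) := fun g e => by
    rw [hP]
    rintro _ ⟨a, ha, rfl⟩
    exact (mk_comm.2 (e a ha)).symm
  obtain ⟨X, _, h1, h2⟩ := two_gen P (by
      rw [hP]
      rintro _ ⟨a, ha, rfl⟩ _ ⟨b, hb, rfl⟩
      exact mk_comm.2 (by rw [h.comm a ha b hb]; simp)) h3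
    (not_cyc h3 ((hT _).2 ⟨(1, 0), rfl⟩) ((hT _).2 ⟨(0, 1), rfl⟩)
      (fun e => absurd (h.inj _ (mk_one.1 e)) (by decide)) (by
      rintro (e | e | e)
      · exact absurd (h.inj _ (mk_one.1 e)) (by decide)
      · exact absurd (ne _ _ e) (by decide)
      · exact absurd (ne _ (-(1, 0)) (e.trans (congrArg _ (Subtype.ext (hA.neg _).symm)))) (by decide)))
    (t := (⟨t, mC.2 tc⟩ : centralizer ({z} : Set G)))
    (congrArg QuotientGroup.mk (show (⟨t, mC.2 tc⟩ : centralizer ({z} : Set G)) ^ 2 = 1 from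
      Subtype.ext t2)) (by
      rw [hP]
      rintro _ ⟨a, ha, rfl⟩
      exact ((mk_eq (a := a⁻¹) (b := ⟨t, mC.2 tc⟩ * a * (⟨t, mC.2 tc⟩)⁻¹)).2
        (by simpa using inv a ha)).symm) fun b hb => by
      obtain ⟨b, rfl⟩ := QuotientGroup.mk_surjective b
      exact (hm b ((mem_im' h.cH).1 (hN hb)) (mC.1 b.2)).imp (cen (b * ⟨t, mC.2 tc⟩)) (cen b)
  exact h.con X h1 fun g => (h2 g).imp fun x e => ⟨e.1, hN e.2⟩

theorem tab1 : ∀ (c : Fin 4) (u : V27), u ≠ 0 → ∃ w, xd c w.1 ∧ ∃ v ∈ [x0, (0, 0, 1), (1, 1, 0),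
    (1, 2, 0), (1, 1, 2)], (ac w v = u ∨ ac w v = -u) ∧ (2 ≤ c → v ≠ (1, 2, 0) ∧ v ≠ (1, 1, 2)) := by
  decide +kernel

namespace St

variable (h : St c J φ)
include h

theorem cent_cj {u v : V27} {w : W2} (hw : xd c w.1) (e : ac w v = u ∨ ac w v = -u)
    (hv : ∀ g, g * φ (v, 0) = φ (v, 0) * g → g ∈ NJ J) {g : G} (hg : g * φ (u, 0) = φ (u, 0) * g) :
    g ∈ NJ J := by
  have a := h.act (p := (0, w)) hw
  have := hv ((φ (0, w))⁻¹ * g * φ (0, w)) (SE.comm_of_conj (g := φ (0, w)) (by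
    rw [a.cj]
    rcases e with e | e <;> rw [e]
    · simpa [mul_assoc] using hg
    · simpa [mul_assoc, h.neg] using (Commute.inv_right hg).eq))
  simpa [mul_assoc] using mul_mem (mul_mem (h.mH (p := (0, w)) hw) this) (inv_mem (h.mH (p := (0, w)) hw))

theorem cent2 {k w y : V27} (k0 : k ≠ 0) (S : S9 (φ (k, 0)) (φ (w, 0)) (φ (y, 0)) J (NJ J))
    {t : W2} (e : xd c t.1 ∧ ac t k = k ∧ pw2 (0, t) 2 = 0 ∧
      (∀ j, j + ac t j = 0 ∨ j + ac t j = k ∨ j + ac t j = -k) ∧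
      ∀ m, xd c m.1 → ac m k = k → mw2 m t = 0 ∨ m = 0) {g : G}
    (hc : g * φ (k, 0) = φ (k, 0) * g) : g ∈ NJ J := by
  obtain ⟨ht, e1, e2, e3, e4⟩ := e
  have a := h.act (p := (0, t)) ht
  refine h.conJ k0 (s9two S ((h.fix a).2 e1) ((h.pw1 ht).2 e2) (fun j hj => ?_) fun g hg e => ?_) hc
  · obtain ⟨u, rfl⟩ := (h.memJ j).1 hj
    rw [a.cj, ← h.add, h.zp]; exact e3 u
  · obtain ⟨m, hm, b⟩ := h.ex hg
    have key : ∀ g, A φ g 0 → ∀ a ∈ J, g * a * g⁻¹ * a⁻¹ ∈ zpowers (φ (k, 0)) := fun g b j hj => by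
      rw [h.commJ (h.cJ b) hj]; simp
    rcases e4 m hm ((h.fix b).1 e) with e | rfl
    exacts [Or.inl (key _ (e ▸ b.mul a)), Or.inr (key _ b)]

theorem cen {u : V27} (hu : u ≠ 0) (h3 : c = 3 → kap u = 1 →
    ∀ g, g * φ (rep 1, 0) = φ (rep 1, 0) * g → g ∈ NJ J) {g : G}
    (hg : g * φ (u, 0) = φ (u, 0) * g) : g ∈ NJ J := by
  obtain ⟨w, hw, v, hv, e, e'⟩ := tab1 c u hu
  refine h.cent_cj hw e (fun g hg => ?_) hg
  simp only [List.mem_cons, List.not_mem_nil, or_false] at hv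
  have hc : c = 0 ∨ c = 1 ∨ c = 2 ∨ c = 3 := by clear * -; revert c; decide
  rcases hv with rfl | rfl | rfl | rfl | rfl
  · exact h.cx g hg
  · rcases hc with rfl | rfl | rfl | rfl
    · exact h.cent3 (r := (1, 2, 0)) (by decide) (by decide) (by decide +kernel) hg
    · exact h.cent3 (r := (1, 2, 0)) (by decide) (by decide) (by decide +kernel) hg
    · exact h.cent9 (w := (1, 2, 0)) (y := (1, 1, 0)) (by decide) (h.s9J (by decide +kernel))
        (s := (0, 0, 1)) (t := ((1, 1, 0), 0, 1)) (by decide +kernel) hg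
    · refine h3 rfl ?_ g hg
      clear * - e; revert e; revert w u; decide +kernel
  · rcases hc with rfl | rfl | rfl | rfl
    · exact h.cent3 (r := (1, 2, 0)) (by decide) (by decide) (by decide +kernel) hg
    · exact h.cent3 (r := (1, 2, 0)) (by decide) (by decide) (by decide +kernel) hg
    · exact h.cent3 (r := (1, 2, 0)) (by decide) (by decide) (by decide +kernel) hg
    · exact h.cent9 (w := (1, 2, 0)) (y := (0, 0, 1)) (by decide) (h.s9J (by decide +kernel))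
        (s := (0, 0, 1)) (t := ((0, 0, 1), 0, 0)) (by decide +kernel) hg
  · rcases hc with rfl | rfl | rfl | rfl
    · exact h.cent3 (r := (0, 0, 1)) (by decide) (by decide) (by decide +kernel) hg
    · exact h.cent2 (w := (1, 1, 0)) (y := (0, 0, 1)) (by decide) (h.s9J (by decide +kernel))
        (t := ((1, 1, 1), 0, 1)) (by decide +kernel) hg
    all_goals exact absurd rfl (e' (by decide)).1
  · rcases hc with rfl | rfl | rfl | rfl
    · exact h.cent3 (r := (1, 2, 0)) (by decide) (by decide) (by decide +kernel) hg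
    · exact h.cent3 (r := (1, 2, 0)) (by decide) (by decide) (by decide +kernel) hg
    all_goals exact absurd rfl (e' (by decide)).2

theorem split {u : V27} (hu : u ≠ 0) (hY : ∀ w, xd c w.1 → ac w u = u → pww w 4 = 0) :
    ∃ K, Spl K (φ (u, 0)) := by
  let C : Subgroup G := centralizer {φ (u, 0)}
  have hC : ∀ {g}, g ∈ C ↔ g * φ (u, 0) = φ (u, 0) * g := mem_centralizer_singleton_iff
  obtain ⟨P, hP⟩ := h.sylJ (L := C) (fun a ha => hC.2 (h.commJ ha (h.mJ u)))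
    fun g hg w hw a => hY w hw ((h.fix a).1 (hC.1 hg))
  choose ψ hψ using fun x : P => (h.memJ _).1 ((hP x).1 x.2)
  obtain ⟨l, hl⟩ : ∃ l : V27 →+ ZMod 3, l u ≠ 0 := by
    by_contra hcon
    push Not at hcon
    exact hu (Prod.ext (hcon (.fst _ _)) (Prod.ext (hcon ((AddMonoidHom.fst _ _).comp (.snd _ _)))
      (hcon ((AddMonoidHom.snd _ _).comp (.snd _ _)))))
  let τ := MonoidHom.transfer (H := (P : Subgroup C)) (MonoidHom.mk'
    (fun x => Multiplicative.ofAdd (l (ψ x))) fun x y => by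
      rw [← ofAdd_add, ← map_add]
      congr 2
      refine h.injJ.1 ?_
      rw [h.add, hψ, hψ, hψ]; rfl)
  let j : C := ⟨φ (u, 0), hC.2 rfl⟩
  have hj : τ j ≠ 1 := by
    have key : ∀ (k : ℕ) (g : C), g⁻¹ * j ^ k * g ∈ (P : Subgroup C) → g⁻¹ * j ^ k * g = j ^ k :=
      fun k g _ => by
        rw [mul_assoc, ← ((show Commute g j from Subtype.ext (hC.1 g.2)).pow_right k).eq]; simp
    rw [MonoidHom.transfer_eq_pow _ j key, MonoidHom.mk'_apply, Ne, ofAdd_eq_one,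
      show ψ _ = (P : Subgroup C).index • u from h.injJ.1 ((hψ _).trans (h.nsmul _ u).symm),
      map_nsmul, nsmul_eq_mul, mul_eq_zero, ZMod.natCast_eq_zero_iff]
    exact fun e => e.elim P.not_dvd_index hl
  have hm : ∀ c : C, τ c = 1 → (c : G) ∈ τ.ker.map C.subtype := fun c hc => ⟨c, hc, rfl⟩
  refine ⟨τ.ker.map C.subtype, map_subtype_le _, fun ⟨c, hc, e⟩ => hj ?_, fun g hg => ?_,
    fun g n hg hn hc => hm ⟨g, hC.2 hg⟩ ?_, fun g g' hg hg' => hm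
      (⟨g, hC.2 hg⟩ * ⟨g', hC.2 hg'⟩ * (⟨g, hC.2 hg⟩)⁻¹ * (⟨g', hC.2 hg'⟩)⁻¹)
      (by simp only [map_mul, map_inv]; simp)⟩
  · rwa [← show c = j from Subtype.ext e]
  · obtain ⟨i, hi⟩ : ∃ i : Fin 3, τ ⟨g, hC.2 hg⟩ * τ j ^ i.val = 1 := z1 _ hj _
    exact ⟨i, hm (⟨g, hC.2 hg⟩ * j ^ i.val) (by simpa using hi)⟩
  · have h1 : τ ⟨g, hC.2 hg⟩ ^ n = 1 := by
      rw [← map_pow, show (⟨g, hC.2 hg⟩ : C) ^ n = 1 from Subtype.ext hn, map_one]
    have h2 : τ ⟨g, hC.2 hg⟩ ^ 3 = 1 := z2 _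
    simpa [hc.gcd_eq_one] using pow_gcd_eq_one.2 ⟨h1, h2⟩

end St

/-- the dihedral group of order eight -/
def j8 (p : V9 × D72.W8) : M2 :=
  ((p.1.1, p.1.2, 0), mw2 (pww ((1, 0, 0), 0, 1) p.2.1.val) (pww ((0, 1, 0), 0, 0) p.2.2.val))

theorem St.x3 (_ : St 3 J φ) (d : D3) : xd 3 d := Or.inl rfl

theorem St.mdl (h : St 3 J φ) : Mdl (NJ J) mul2 φ :=
  ⟨fun p q => h.hom p q (h.x3 _) (h.x3 _), fun p q => h.inj p q (h.x3 _) (h.x3 _),
    fun g => (h.mem g).trans ⟨fun ⟨p, e⟩ => ⟨p, e.2⟩, fun ⟨p, e⟩ => ⟨p, h.x3 _, e⟩⟩⟩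

theorem St.mem_K (h : St 3 J φ) {K : Subgroup G} (hK : Spl K (φ (rep 1, 0))) {v : V27} :
    φ (v, 0) ∈ K ↔ v.2.2 = 0 := by
  have key : ∀ v : V27, v.2.2 = 0 → φ (v, 0) ∈ K := fun v hv => by
    have a := h.act (p := (0, (1, 1, 0), 0, 0)) (h.x3 _)
    have := hK.cm _ _ ((h.fix a).2 (by decide +kernel)) (h.JJ v _)
    rwa [a.cj, ← h.neg, ← h.add, show ac ((1, 1, 0), 0, 0) v + -v = v by
      clear * - hv; revert v; decide +kernel] at this
  refine ⟨fun hv => ?_, key v⟩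
  have := mul_mem hv (key (-v.1, -v.2.1, 0) rfl)
  rw [← h.add] at this
  rcases (show v.2.2 = 0 ∨ v + (-v.1, -v.2.1, 0) = rep 1 ∨ v + (-v.1, -v.2.1, 0) = -rep 1 by
    clear * -; revert v; decide +kernel) with e | e | e
  · exact e
  · exact absurd (e ▸ this) hK.nm
  · exact absurd (inv_mem_iff.1 (h.neg _ ▸ e ▸ this)) hK.nm

theorem St.mem_K8 (h : St 3 J φ) {K : Subgroup G} (hK : Spl K (φ (rep 1, 0))) {g : G} :
    g ∈ K ∧ g ∈ NJ J ↔ ∃ p, φ (j8 p) = g := by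
  have k1 : ∀ w, ac w (rep 1) = rep 1 → φ (0, w) ∈ K := fun w hw =>
    hK.cop _ 4 ((h.fix (h.act (p := (0, w)) (h.x3 _))).2 hw) ((h.pw1 (h.x3 _)).2 (by
      clear * - hw; revert w; decide +kernel)) (by norm_num)
  constructor
  · rintro ⟨h1, h2⟩
    obtain ⟨⟨u, w⟩, -, rfl⟩ := (h.mem g).1 h2
    have e := (h.fix (h.act (h.x3 _))).1 (hK.comm h1)
    rw [h.sp u (h.x3 _), mul_mem_cancel_right (k1 w e), h.mem_K hK] at h1
    obtain ⟨i, rfl⟩ := (by decide +kernel : ∀ w, ac w (rep 1) = rep 1 → ∃ i, w = (j8 (0, i)).2) w e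
    exact ⟨((u.1, u.2.1), i), congrArg φ (Prod.ext (Prod.ext rfl (Prod.ext rfl h1.symm)) rfl)⟩
  · rintro ⟨p, rfl⟩
    refine ⟨?_, h.mH (h.x3 _)⟩
    rw [j8, h.sp _ (h.x3 _)]
    exact mul_mem ((h.mem_K hK).2 rfl) (k1 _ (by generalize p.2 = i; revert i; decide +kernel))

theorem St.cx3 (h : St 3 J φ) : (∀ g, g * φ (rep 1, 0) = φ (rep 1, 0) * g → g ∈ NJ J) ∨
    ∃ K, Spl K (φ (rep 1, 0)) ∧ Nonempty (K ≃* Equiv.Perm (Fin 6)) := by
  obtain ⟨K, hK⟩ := h.split (u := rep 1) (by decide) (by decide +kernel)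
  have j3 : ∀ g ∈ K, g ∈ NJ J → (∃ n, g ^ 3 ^ n = 1) → g ∈ J := fun g hg e f => by
    obtain ⟨w, -, a⟩ := h.ex e
    exact h.memJ3 a f ((by decide +kernel : ∀ w, ac w (rep 1) = rep 1 → pww w 4 = 0) w
      ((h.fix a).1 (hK.comm hg)))
  have m1 : φ ((1, 0, 0), 0) ∈ K := (h.mem_K hK).2 rfl
  have nH : ∀ g ∈ K, g * φ ((1, 0, 0), 0) * g⁻¹ ∈ J → g ∈ NJ J := fun g hg e =>
    h.g1 (h.mJ (rep 1)) (h.mJ _) (h.ne (by decide)) (by rw [h.zp]; decide)
      (by rw [hK.comm hg, mul_inv_cancel_right]; exact h.mJ _) e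
  obtain ⟨P, hP⟩ := exists_syl (L := K) (A := K ⊓ J) inf_le_left (h.pg.to_le inf_le_right)
    fun g hg e f => ⟨hg, j3 g hg (nH g hg (e _ ⟨m1, h.mJ _⟩).2) f⟩
  replace hP : ∀ g : K, g ∈ (P : Subgroup K) ↔ (g : G) ∈ J := fun g => (hP g).trans (and_iff_right g.2)
  refine (D72.reduce (P := P) (H := (NJ J).subgroupOf K)
    (φ := fun p => ⟨φ (j8 p), ((h.mem_K8 hK).2 ⟨p, rfl⟩).1⟩) ⟨fun p q => Subtype.ext ?_,
      fun p q e => ?_, fun g => ?_⟩ (fun g => ?_) (TI_of (fun a ha b hb => Subtype.ext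
        (h.commJ ((hP a).1 ha) ((hP b).1 hb))) (fun t ht t1 g hg => ?_) (fun t ht g hg => ?_)
        fun g hg => nH g g.2 ((hP _).1 (hg ⟨_, m1⟩ ((hP _).2 (h.mJ _)))))).imp
    (fun hn g hg => ?_) fun e => ⟨K, hK, e⟩
  · refine Eq.trans (congrArg φ ?_) (h.mdl.hom _ _)
    have e1 : ∀ i k, (j8 (0, D72.mw i k)).2 = mw2 (j8 (0, i)).2 (j8 (0, k)).2 := by decide +kernel
    have e2 : ∀ i u, ((D72.act i u).1, (D72.act i u).2, 0) = ac (j8 (0, i)).2 (u.1, u.2, 0) := by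
      decide +kernel
    exact Prod.ext (Eq.trans (by simp [j8, D72.mul, sdMul]) (congrArg ((j8 p).1 + ·) (e2 p.2 q.1)))
      (e1 _ _)
  · have := h.mdl.inj (congrArg Subtype.val e)
    exact Prod.ext (by simpa [j8, Prod.ext_iff] using congrArg Prod.fst this)
      ((by decide +kernel : ∀ i k, (j8 (0, i)).2 = (j8 (0, k)).2 → i = k) _ _
        (congrArg Prod.snd this : (j8 p).2 = (j8 q).2))
  · simp only [Subtype.ext_iff, ← h.mem_K8 hK]
    exact (and_iff_right g.2).symm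
  · rw [hP, h.memJ]
    refine ⟨fun ⟨u, e⟩ => ⟨(u.1, u.2.1), Subtype.ext ?_⟩, fun ⟨u, e⟩ => ⟨_, congrArg Subtype.val e⟩⟩
    rw [← e, ← Prod.mk.eta (p := u), ← Prod.mk.eta (p := u.2), (h.mem_K hK).1 (e ▸ g.2)]; rfl
  · refine h.g0 ((hP t).1 ht) (h.mJ (rep 1)) (fun e => t1 (Subtype.ext e))
      (fun e => hK.nm (zpowers_le.2 t.2 e))
      (congrArg Subtype.val (mem_centralizer_singleton_iff.1 hg)) (hK.comm g.2)
  · exact (hP _).2 (j3 _ (g * t * g⁻¹).2 hg ⟨1, SE.conj_cube (h.cubeJ ((hP t).1 ht))⟩)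
  · obtain ⟨i, hi⟩ := hK.dec g hg
    exact (mul_mem_cancel_right (pow_mem (le_normalizer (h.mJ _)) i)).1 (nH _ hi ((hP _).1
      (hn.conj_mem ⟨_, m1⟩ ((hP _).2 (h.mJ _)) ⟨_, hi⟩)))

end H58.S9
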