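import Cfsg.Agent.Lib.Sym9.Base
import Cfsg.Agent.Lib.Odd.Sect

/-! Fusion in `J` and centralisers of subgroups of order nine. -/

set_option autoImplicit false
set_option synthInstance.maxSize 2048
set_option linter.unusedSectionVars false

namespace H58.S9

open Cfsg H53.Odd H58.N9 H58.SE Subgroup

variable {G : Type*} [Group G] [Finite G] {J : Subgroup G} {c : Fin 4} {φ : M2 → G}

/-- the action on `J` -/
abbrev A (φ : M2 → G) (g : G) (w : W2) : Prop := Ac (fun u => φ (u, 0)) g w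

theorem A.cj {g : G} {w : W2} (a : A φ g w) (u : V27) : g * φ (u, 0) * g⁻¹ = φ (ac w u, 0) := a u

theorem xd_pw {p : M2} (hp : xd c p.2.1) : ∀ n, xd c (pw2 p n).2.1
  | 0 => xd_zero c
  | n + 1 => xd_mw c _ _ (xd_pw hp n) hp

/-- the reflected direction -/
def rc (a b : V27) : V27 :=
  if kap (a.2.1 * b.2.2 - a.2.2 * b.2.1, a.2.2 * b.1 - a.1 * b.2.2, a.1 * b.2.1 - a.2.1 * b.1) = 3
  then (1, 0, 0)
  else (a.2.1 * b.2.2 - a.2.2 * b.2.1, a.2.2 * b.1 - a.1 * b.2.2, a.1 * b.2.1 - a.2.1 * b.1)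

/-- `w` moves vectors in the direction `r` -/
def Dir (w : W2) (r : V27) : Prop := ∀ j, ac w j + -j = 0 ∨ ac w j + -j = r ∨ ac w j + -j = -r

instance decDir (w : W2) (r : V27) : Decidable (Dir w r) := by unfold Dir; infer_instance

theorem rc_spec : ∀ a b : V27, a ≠ 0 → ¬ (b = 0 ∨ b = a ∨ b = -a) → rc a b ≠ 0 ∧
    (∀ j : Fin 3, ∃ i i' i'' : Fin 3, ro j (1, 0, 0) = i.val • a + (i'.val • b + i''.val • rc a b)) ∧
    ∀ w, ac w a = a → ac w b = b → pww w 4 = 0 ∧ Dir w (rc a b) := by decide +kernel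

namespace St

variable (h : St c J φ)
include h

theorem jf : Jf J fun u => φ (u, 0) :=
  ⟨fun u v => by rw [← h.hom _ _ (xd_zero c) (xd_zero c), mul_J], fun u v e =>
    congrArg Prod.fst (h.inj _ _ (xd_zero c) (xd_zero c) e), h.memJ⟩

theorem one : φ (0, 0) = 1 := h.jf.ah.zero

theorem add (u v : V27) : φ (u + v, 0) = φ (u, 0) * φ (v, 0) := h.jf.ah u v

theorem neg (u : V27) : φ (-u, 0) = (φ (u, 0))⁻¹ := h.jf.ah.neg u

theorem nsmul (n : ℕ) (u : V27) : φ (n • u, 0) = φ (u, 0) ^ n := h.jf.ah.nsmul n u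

theorem JJ (u v : V27) : φ (u, 0) * φ (v, 0) = φ (v, 0) * φ (u, 0) := h.jf.comm u v

theorem cube (u : V27) : φ (u, 0) ^ 3 = 1 := h.jf.cube u

theorem injJ {u v : V27} : φ (u, 0) = φ (v, 0) ↔ u = v := h.jf.inj.eq_iff

theorem ne {u : V27} (hu : u ≠ 0) : φ (u, 0) ≠ 1 := fun e => hu (h.injJ.1 (e.trans h.one.symm))

theorem mJ (u : V27) : φ (u, 0) ∈ J := (h.memJ _).2 ⟨u, rfl⟩

theorem mH {p : M2} (hp : xd c p.2.1) : φ p ∈ NJ J := (h.mem _).2 ⟨p, hp, rfl⟩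

theorem commJ {a b : G} (ha : a ∈ J) (hb : b ∈ J) : a * b = b * a := by
  obtain ⟨u, rfl⟩ := (h.memJ a).1 ha
  obtain ⟨v, rfl⟩ := (h.memJ b).1 hb
  exact h.JJ u v

theorem cubeJ {a : G} (ha : a ∈ J) : a ^ 3 = 1 := by
  obtain ⟨u, rfl⟩ := (h.memJ a).1 ha
  exact h.cube u

theorem pg : IsPGroup 3 J := fun g => ⟨1, Subtype.ext (h.cubeJ g.2)⟩

theorem act {p : M2} (hp : xd c p.2.1) : A φ (φ p) p.2 := fun u => by
  rw [mul_inv_eq_iff_eq_mul, ← h.hom _ _ hp (xd_zero c), ← h.hom _ _ (xd_zero c) hp, mul_cj]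

theorem ex {g : G} (hg : g ∈ NJ J) : ∃ w, xd c w.1 ∧ A φ g w := by
  obtain ⟨p, hp, rfl⟩ := (h.mem g).1 hg
  exact ⟨_, hp, h.act hp⟩

theorem cJ {g : G} (a : A φ g 0) : g ∈ J := by
  obtain ⟨⟨u, w⟩, hp, rfl⟩ := (h.mem g).1 (h.cx g (mul_inv_eq_iff_eq_mul.1 (a x0)))
  obtain rfl : w = 0 := h.jf.uniq (h.act hp) a
  exact h.mJ u

theorem div {g g' : G} {w : W2} (a : A φ g w) (b : A φ g' w) : g'⁻¹ * g ∈ J := h.cJ fun u => by
  calc _ = g'⁻¹ * (g * φ (u, 0) * g⁻¹) * g' := by group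
    _ = _ := by rw [a.cj, ← b.cj, ac_zero]; group

theorem div' {g g' : G} {w : W2} (a : A φ g w) (b : A φ g' w) : g * g'⁻¹ ∈ J := by
  simpa [mul_assoc] using (mem_normalizer_iff.1 (h.jf.norm b) _).1 (h.div a b)

theorem sp (u : V27) {w : W2} (hw : xd c w.1) : φ (u, w) = φ (u, 0) * φ (0, w) := by
  rw [← h.hom _ _ (xd_zero c) hw, mul_sp]

theorem homW {w w' : W2} (hw : xd c w.1) (hw' : xd c w'.1) :
    φ (0, mw2 w w') = φ (0, w) * φ (0, w') := by rw [← h.hom _ _ hw hw', mul_W]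

theorem pw {p : M2} (hp : xd c p.2.1) : ∀ n, φ p ^ n = φ (pw2 p n)
  | 0 => by rw [pow_zero, ← h.one]; rfl
  | n + 1 => by rw [pow_succ, pw hp n, ← h.hom _ _ (xd_pw hp n) hp]; rfl

theorem pw1 {p : M2} (hp : xd c p.2.1) {n : ℕ} : φ p ^ n = 1 ↔ pw2 p n = 0 := by
  rw [h.pw hp, ← h.one]
  exact ⟨h.inj _ _ (xd_pw hp n) (xd_zero c), congrArg φ⟩

theorem mul_iff {p q r s : M2} (hp : xd c p.2.1) (hq : xd c q.2.1) (hr : xd c r.2.1)
    (hs : xd c s.2.1) : φ p * φ q = φ r * φ s ↔ mul2 p q = mul2 r s := by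
  rw [← h.hom _ _ hp hq, ← h.hom _ _ hr hs]
  exact ⟨h.inj _ _ (xd_mw c _ _ hp hq) (xd_mw c _ _ hr hs), congrArg φ⟩

theorem conj_iff {p q r : M2} (hp : xd c p.2.1) (hq : xd c q.2.1) (hr : xd c r.2.1) :
    φ p * φ q * (φ p)⁻¹ = φ r ↔ mul2 p q = mul2 r p := by
  rw [mul_inv_eq_iff_eq_mul, h.mul_iff hp hq hr hp]

theorem fix {g : G} {w : W2} (a : A φ g w) {u : V27} :
    g * φ (u, 0) = φ (u, 0) * g ↔ ac w u = u := by
  rw [← mul_inv_eq_iff_eq_mul, a u, h.injJ]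

theorem zp {u v : V27} : φ (v, 0) ∈ zpowers (φ (u, 0)) ↔ v = 0 ∨ v = u ∨ v = -u := by
  rw [mem_zpowers_three (h.cube u), ← h.neg, ← h.one, h.injJ, h.injJ, h.injJ]

theorem wc {g : G} (hg : ∀ j ∈ J, g * j * g⁻¹ ∈ NJ J) : g ∈ NJ J :=
  mem_normalizer_of_le fun j hj => h.jf.big (A := J.map (MulAut.conj g).toMonoidHom)
    (by rintro _ ⟨a, ha, rfl⟩; exact (h.ex (hg a ha)).imp fun _ e => e.2) (fun _ => h.cJ)
    (by rintro _ ⟨a, ha, rfl⟩ _ ⟨b, hb, rfl⟩; exact SE.conj_comm (h.commJ ha hb))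
    (by rintro _ ⟨a, ha, rfl⟩; exact conj_cube (h.cubeJ ha))
    (by rw [card_map_of_injective (MulAut.conj g).injective, h.jf.card]) ⟨j, hj, rfl⟩

theorem wcP {P : Subgroup G} (hP : IsPGroup 3 P) (hJ : J ≤ P) : P ≤ NJ J := by
  by_contra hn
  obtain ⟨s, hs, hsn, hs'⟩ := H2.exists_mem_normalizer_not_mem hP.isNilpotent
    (lt_of_le_of_ne inf_le_left fun e : P ⊓ NJ J = P => hn (e ▸ inf_le_right))
  exact hs' ⟨hs, h.wc fun u hu => ((mem_normalizer_iff.1 hsn _).1 ⟨hJ hu, le_normalizer hu⟩).2⟩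

theorem fusK {K : Subgroup G} (hJ : J ≤ K) {g : G} (hg : ∀ j ∈ J, g * j * g⁻¹ ∈ K) :
    ∃ k ∈ K, k * g ∈ NJ J := by
  obtain ⟨P, hP⟩ := (h.pg.comap_subtype (K := K)).exists_le_sylow
  obtain ⟨k, hk⟩ := H9.exists_conj_mem_sylow P
    ((h.pg.map (MulAut.conj g).toMonoidHom).comap_subtype (K := K))
  refine ⟨k, k.2, h.wc fun u hu => h.wcP (P.isPGroup'.map K.subtype)
    (fun u hu => ⟨⟨_, hJ hu⟩, hP hu, rfl⟩) ⟨_, hk ⟨_, hg u hu⟩ ⟨_, hu, rfl⟩, ?_⟩⟩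
  simp [mul_assoc]

theorem fus {g : G} {u v : V27} (e : g * φ (u, 0) * g⁻¹ = φ (v, 0)) :
    ∃ k, k * φ (v, 0) = φ (v, 0) * k ∧ k * g ∈ NJ J := by
  obtain ⟨k, hk, hk'⟩ := h.fusK (K := centralizer {φ (v, 0)}) (g := g)
    (fun u hu => mem_centralizer_singleton_iff.2 (h.commJ hu (h.mJ v)))
    fun j hj => mem_centralizer_singleton_iff.2 (e ▸ SE.conj_comm (h.commJ hj (h.mJ u)))
  exact ⟨k, mem_centralizer_singleton_iff.1 hk, hk'⟩

theorem kap_eq {g : G} {u v : V27} (e : g * φ (u, 0) * g⁻¹ = φ (v, 0)) : kap u = kap v := by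
  obtain ⟨k, hk, hk'⟩ := h.fus e
  obtain ⟨w, -, a⟩ := h.ex hk'
  have := a u
  rw [show k * g * φ (u, 0) * (k * g)⁻¹ = k * (g * φ (u, 0) * g⁻¹) * k⁻¹ by group, e, hk,
    mul_inv_cancel_right] at this
  rw [h.injJ.1 this, kap_ac]

theorem pow36 {g : G} (hg : g ∈ NJ J) : g ^ 36 = 1 := by
  obtain ⟨w, -, a⟩ := h.ex hg
  rw [show 36 = 12 * 3 from rfl, pow_mul, h.cubeJ (h.cJ (w12 w ▸ a.pow 12))]

theorem memJ3 {g : G} {w : W2} (a : A φ g w) (e : ∃ n, g ^ 3 ^ n = 1) (hY : pww w 4 = 0) : g ∈ J := by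
  obtain ⟨n, e⟩ := e
  exact zpowers_le.2 (h.cJ (hY ▸ a.pow 4)) (mem_zpowers_pow_iff.2
    ((Nat.Coprime.pow_right n (by norm_num)).coprime_dvd_right (orderOf_dvd_of_pow_eq_one e)))

theorem sylJ {L : Subgroup G} (hJ : J ≤ L)
    (hY : ∀ g ∈ L, ∀ w, xd c w.1 → A φ g w → pww w 4 = 0) :
    ∃ P : Sylow 3 L, ∀ g : L, g ∈ (P : Subgroup L) ↔ (g : G) ∈ J :=
  exists_syl hJ h.pg fun g hg e f => by
    obtain ⟨w, hw, a⟩ := h.ex (mem_normalizer_of_le e)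
    exact h.memJ3 a f (hY g hg w hw a)

theorem comm_mem {g : G} {w : W2} (a : A φ g w) {r : V27} (e : Dir w r) {u : G} (hu : u ∈ J) :
    g * u * g⁻¹ * u⁻¹ ∈ zpowers (φ (r, 0)) := by
  obtain ⟨j, rfl⟩ := (h.memJ u).1 hu
  rw [a j, ← h.neg, ← h.add, h.zp]
  exact e j

theorem span {B : Subgroup G} (e : ∀ j : Fin 3, φ (ro j (1, 0, 0), 0) ∈ B) : J ≤ B := fun g hg => by
  obtain ⟨u, rfl⟩ := (h.memJ g).1 hg
  rw [show u = u.1.val • ro (0 : Fin 3) (1, 0, 0) + (u.2.1.val • ro (1 : Fin 3) (1, 0, 0) +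
    u.2.2.val • ro (2 : Fin 3) (1, 0, 0)) by clear * -; revert u; decide +kernel, h.add, h.add,
    h.nsmul, h.nsmul, h.nsmul]
  exact mul_mem (pow_mem (e 0) _) (mul_mem (pow_mem (e 1) _) (pow_mem (e 2) _))

theorem g0 {a b g : G} (ha : a ∈ J) (hb : b ∈ J) (a1 : a ≠ 1) (b1 : b ∉ zpowers a)
    (ca : g * a = a * g) (cb : g * b = b * g) : g ∈ NJ J := by
  obtain ⟨k, rfl⟩ := (h.memJ a).1 ha
  obtain ⟨l, rfl⟩ := (h.memJ b).1 hb
  obtain ⟨r0, r2, r3⟩ := rc_spec k l (by rintro rfl; exact a1 h.one) (mt h.zp.2 b1)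
  generalize rc k l = r at *
  have sp : ∀ B : Subgroup G, φ (k, 0) ∈ B → φ (l, 0) ∈ B → φ (r, 0) ∈ B → J ≤ B :=
    fun B e1 e2 e3 => h.span fun j => by
      obtain ⟨i, i', i'', e⟩ := r2 j
      rw [e, h.add, h.add, h.nsmul, h.nsmul, h.nsmul]
      exact mul_mem (pow_mem e1 _) (mul_mem (pow_mem e2 _) (pow_mem e3 _))
  let L := centralizer {φ (k, 0)} ⊓ centralizer {φ (l, 0)}
  have mL : ∀ {g}, g ∈ L ↔ g * φ (k, 0) = φ (k, 0) * g ∧ g * φ (l, 0) = φ (l, 0) * g := fun {g} =>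
    and_congr mem_centralizer_singleton_iff mem_centralizer_singleton_iff
  have hJ : J ≤ L := fun g hg => mL.2 ⟨h.commJ hg ha, h.commJ hg hb⟩
  have hY : ∀ g ∈ L, ∀ w, A φ g w → _ := fun g hg w a =>
    r3 w ((h.fix a).1 (mL.1 hg).1) ((h.fix a).1 (mL.1 hg).2)
  have hC : ∀ g ∈ L, φ (r, 0) * g = g * φ (r, 0) → g ∈ J := fun g hg e => h.cJ fun u => by
    rw [ac_zero, mul_inv_eq_iff_eq_mul]
    exact (mem_centralizer_singleton_iff.1 (sp (centralizer {g})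
      (mem_centralizer_singleton_iff.2 (mL.1 hg).1.symm)
      (mem_centralizer_singleton_iff.2 (mL.1 hg).2.symm) (mem_centralizer_singleton_iff.2 e)
      (h.mJ u))).symm
  obtain ⟨P, hP⟩ := h.sylJ hJ fun g hg w _ a => (hY g hg w a).1
  rcases t3L hJ P hP (fun _ a _ b => h.commJ a b) (h.mJ r) (h.cube r) (h.ne r0) hC
    (fun n hn e u hu => by
      obtain ⟨w, -, a⟩ := h.ex (mem_normalizer_of_le e)
      exact h.comm_mem a (hY n hn w a).2 hu) with ⟨X, -, x1, x2, x3⟩ | ⟨⟨Y, y1, y2, y3, y4⟩, -⟩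
  · obtain rfl := h.sig X x1 fun j hj => x2 j (hJ hj)
    obtain ⟨_, rfl, e⟩ := x3 g (mL.2 ⟨ca, cb⟩)
    rw [one_mul] at e
    refine mem_normalizer_of_le fun j hj => sp (J.comap (MulAut.conj g).toMonoidHom) ?_ ?_
      (zpowers_le.2 (h.mJ r) e) hj
    · show g * _ * g⁻¹ ∈ J
      rwa [ca, mul_inv_cancel_right]
    · show g * _ * g⁻¹ ∈ J
      rwa [cb, mul_inv_cancel_right]
  · refine absurd (h.sig Y y3 fun j hj u => (mem_normalizer_iff.1 (sp (normalizer Y) ?_ ?_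
      (mem_normalizer_of_le y4) hj) u).1) y2 <;> refine mem_normalizer_of_le fun u hu => ?_
    · rwa [← (mL.1 (y1 hu)).1, mul_inv_cancel_right]
    · rwa [← (mL.1 (y1 hu)).2, mul_inv_cancel_right]

theorem g1 {a b g : G} (ha : a ∈ J) (hb : b ∈ J) (a1 : a ≠ 1) (b1 : b ∉ zpowers a)
    (ca : g * a * g⁻¹ ∈ J) (cb : g * b * g⁻¹ ∈ J) : g ∈ NJ J :=
  h.wc fun j hj => h.g0 ca cb (by simpa using a1) (fun ⟨k, e⟩ => b1 ⟨k, by
    simpa [conj_zpow] using e⟩) (SE.conj_comm (h.commJ hj ha)) (SE.conj_comm (h.commJ hj hb))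

theorem modJ {k : V27} (k0 : k ≠ 0) {v g : G} (hv : v ∈ J) (v1 : v ∉ zpowers (φ (k, 0)))
    (hg : g * φ (k, 0) = φ (k, 0) * g) (e : g * v * g⁻¹ * v⁻¹ ∈ zpowers (φ (k, 0))) : g ∈ NJ J :=
  h.g1 (h.mJ k) hv (h.ne k0) v1 (by rw [hg, mul_inv_cancel_right]; exact h.mJ k)
    (by simpa using mul_mem (zpowers_le.2 (h.mJ k) e) hv)

theorem cent3 {k r : V27} (k0 : k ≠ 0) (r0 : ¬ (r = 0 ∨ r = k ∨ r = -k))
    (hY : ∀ w, xd c w.1 → ac w k = k → pww w 4 = 0 ∧ (ac w r = r → w = 0) ∧ Dir w r) {g : G}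
    (hc : g * φ (k, 0) = φ (k, 0) * g) : g ∈ NJ J := by
  have mL : ∀ {g}, g ∈ centralizer {φ (k, 0)} ↔ g * φ (k, 0) = φ (k, 0) * g :=
    mem_centralizer_singleton_iff
  have hJ : J ≤ centralizer {φ (k, 0)} := fun g hg => mL.2 (h.commJ hg (h.mJ k))
  have r1 := mt h.zp.1 r0
  obtain ⟨P, hP⟩ := h.sylJ hJ fun g hg w hw a => (hY w hw ((h.fix a).1 (mL.1 hg))).1
  rcases t3L hJ P hP (fun _ a _ b => h.commJ a b) (h.mJ r) (h.cube r)
    (h.ne fun e => r0 (Or.inl e)) (fun g hg e => by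
      obtain ⟨w, hw, a⟩ := h.ex (h.g0 (h.mJ k) (h.mJ r) (h.ne k0) r1 (mL.1 hg) e.symm)
      obtain rfl := (hY w hw ((h.fix a).1 (mL.1 hg))).2.1 ((h.fix a).1 e.symm)
      exact h.cJ a)
    (fun n hn e u hu => by
      obtain ⟨w, hw, a⟩ := h.ex (mem_normalizer_of_le e)
      exact h.comm_mem a (hY w hw ((h.fix a).1 (mL.1 hn))).2.2 hu) with
    ⟨X, -, x1, x2, x3⟩ | ⟨-, R, -, V, v1, v2, ⟨v3, v4⟩ | ⟨v3, rfl⟩⟩
  · obtain rfl := h.sig X x1 fun j hj => x2 j (hJ hj)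
    obtain ⟨_, rfl, e⟩ := x3 g (mL.2 hc)
    rw [one_mul] at e
    exact h.g1 (h.mJ k) (h.mJ r) (h.ne k0) r1 (by rw [hc, mul_inv_cancel_right]; exact h.mJ k)
      (zpowers_le.2 (h.mJ r) e)
  · exfalso
    rw [h.jf.card] at v4
    obtain ⟨⟨a, ha⟩, a1⟩ := ne_bot_iff_exists_ne_one.1
      (show V ≠ ⊥ by rintro rfl; rw [card_bot] at v4; omega)
    obtain ⟨b, hb, b1⟩ : ∃ b ∈ V, b ∉ zpowers a := by
      by_contra! f
      have := (card_le_of_le f).trans (Nat.card_zpowers a ▸ Nat.le_of_dvd (by omega)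
        (orderOf_dvd_of_pow_eq_one (h.cubeJ (v1 ha))))
      omega
    obtain ⟨u, hu, e⟩ := H1.exists_mem_orderOf_eq_prime (H := R) Nat.prime_five (by rw [v3])
    have := orderOf_dvd_of_pow_eq_one (h.pow36 (h.g0 (v1 ha) (v1 hb) (fun e => a1 (Subtype.ext e)) b1
      (cent_five v3 (n := 1) (h.cubeJ (v1 ha)) (v2 a ha) u hu)
      (cent_five v3 (n := 1) (h.cubeJ (v1 hb)) (v2 b hb) u hu)))
    rw [e] at this
    omega
  · obtain rfl := h.sig R (by rw [v3]; norm_num) v2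
    rw [card_bot] at v3
    omega

theorem f9J (w y : V27) (u : V9) :
    f9 (φ (w, 0)) (φ (y, 0)) u = φ (u.1.val • w + u.2.val • y, 0) := by
  rw [h.add, h.nsmul, h.nsmul, f9]

theorem s9J {k w y : V27} (e : (∀ j, ∃ u : V9, -(u.1.val • w + u.2.val • y) + j = 0 ∨
      -(u.1.val • w + u.2.val • y) + j = k ∨ -(u.1.val • w + u.2.val • y) + j = -k) ∧
      (∀ u : V9, u.1.val • w + u.2.val • y = 0 ∨ u.1.val • w + u.2.val • y = k ∨
        u.1.val • w + u.2.val • y = -k → u = 0) ∧ ∀ m, xd c m.1 → ac m k = k → pww m 4 = 0) :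
    S9 (φ (k, 0)) (φ (w, 0)) (φ (y, 0)) J (NJ J) := by
  obtain ⟨h1, h2, hY⟩ := e
  refine ⟨fun g hg => mem_centralizer_singleton_iff.2 (h.commJ hg (h.mJ k)),
    fun _ a _ b => h.commJ a b, fun _ a => h.cubeJ a, fun g hg e e' => ?_, h.mJ w, h.mJ y,
    fun a ha => ?_, fun u e => h2 u (h.zp.1 (h.f9J w y u ▸ e)), le_normalizer (h.mJ k),
    le_normalizer, fun g hg e => mem_normalizer_of_le fun a ha => ?_⟩
  · obtain ⟨m, hm, a⟩ := h.ex (mem_normalizer_of_le e)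
    exact h.memJ3 a e' (hY m hm ((h.fix a).1 hg))
  · obtain ⟨j, rfl⟩ := (h.memJ a).1 ha
    obtain ⟨u, e⟩ := h1 j
    exact ⟨u, by rwa [h.f9J, ← h.neg, ← h.add, h.zp]⟩
  · obtain ⟨b, hb, e⟩ := e a ha
    simpa using mul_mem hb (zpowers_le.2 (h.mJ k) e)

theorem conJ {k : V27} (k0 : k ≠ 0) (e : S9.Con (φ (k, 0)) J (NJ J)) {g : G}
    (hc : g * φ (k, 0) = φ (k, 0) * g) : g ∈ NJ J := by
  obtain ⟨Y, y0, -, -, y1, y2⟩ := e
  obtain ⟨u, hu, e⟩ := (y1 g hc).2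
  simpa using mul_mem (inv_mem (y2 _ (le_normalizer (h.mJ k)) (fun v hv v1 u hu =>
    h.modJ k0 hv v1 (mem_centralizer_singleton_iff.1 (y0 hu))) hu)) e

theorem cent9 {k w y : V27} (k0 : k ≠ 0) (S : S9 (φ (k, 0)) (φ (w, 0)) (φ (y, 0)) J (NJ J))
    {s t : W2} (e : xd c s.1 ∧ xd c t.1 ∧ ac s k = k ∧ ac t k = k ∧ ac s w = -w ∧ ac s y = y ∧
      ac t w = w ∧ ac t y = -y ∧ pw2 (0, s) 2 = 0 ∧ pw2 (0, t) 2 = 0 ∧ mw2 s t = mw2 t s ∧
      ∀ m, xd c m.1 → ac m k = k → ∃ i : H36.W4, m = mw2 (pww s i.1.val) (pww t i.2.val)) {g : G}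
    (hc : g * φ (k, 0) = φ (k, 0) * g) : g ∈ NJ J := by
  obtain ⟨hs, ht, e1, e2, e3, e4, e5, e6, e7, e8, e9, hY⟩ := e
  have a := h.act (p := (0, s)) hs
  have a' := h.act (p := (0, t)) ht
  exact h.conJ k0 (S.nine ((h.fix a).2 e1) ((h.fix a').2 e2) (h.mH hs) (h.mH ht)
    ((h.pw1 hs).2 e7) ((h.pw1 ht).2 e8) (by rw [← h.homW hs ht, ← h.homW ht hs, e9])
    (by rw [a.cj, e3, h.neg]) (by rw [a.cj, e4]) (by rw [a'.cj, e5]) (by rw [a'.cj, e6, h.neg])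
    (fun g hg e => by
      obtain ⟨m, hm, b⟩ := h.ex hg
      obtain ⟨i, rfl⟩ := hY m hm ((h.fix b).1 e)
      exact ⟨_, h.div' b ((a.pow i.1.val).mul (a'.pow i.2.val)), i, by simp [mul_assoc]⟩)
    (fun g hg e => h.modJ k0 S.hw (fun f => absurd (S.inj (1, 0) (by rwa [f9_10])) (by decide)) hg e)
    fun v hv v1 => ⟨zpowers (φ (k, 0)), zpowers_le.2 (mem_centralizer_singleton_iff.2 rfl),
      mem_zpowers _, fun o ho => ⟨pow_mem ho 4, by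
        rw [h.commJ (zpowers_le.2 (h.mJ k) ho) hv]; simp⟩, fun g hg e => ⟨by
          rintro _ ⟨i, rfl⟩
          rw [← conj_zpow, hg, mul_inv_cancel_right]
          exact zpow_mem (mem_zpowers _) i, g, h.modJ k0 hv v1 hg e, by simp⟩⟩) hc

end St

end H58.S9
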