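import Cfsg.Agent.Lib.A8.Sc
import Cfsg.Agent.Lib.SL2.Invol
import Cfsg.Agent.S3224

/-! Two general lemmas. -/

set_option autoImplicit false

namespace H58.S9

open Subgroup H58.SE
open scoped MatrixGroups

theorem psl_cent {F : Type*} [Field F] (h2 : (2 : F) ≠ 0) {g a b : PSL(2, F)} (g3 : g ^ 3 = 1)
    (g1 : g ≠ 1) (ha : g * a = a * g) (hb : g * b = b * g) : a * b = b * a := by
  obtain ⟨g, rfl⟩ := QuotientGroup.mk_surjective g
  have key : ∀ a : SL(2, F), (g : PSL(2, F)) * a = a * g → g * a = a * g := fun a ha => by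
    refine (H29.psl_comm_iff.1 ha).resolve_right fun e => ?_
    have e1 : g ^ 3 * a = -(a * g ^ 3) := by
      simp only [pow_succ, pow_zero, one_mul, mul_assoc, e, mul_neg]
      simp only [← mul_assoc, e, neg_mul, mul_neg, neg_neg]
    rw [← mem_center_iff.1 ((QuotientGroup.eq_one_iff _).1 g3), ← neg_mul, mul_left_inj] at e1
    have e2 : ∀ i j, a.1 i j = 0 := fun i j => by
      have := congrArg (fun x : SL(2, F) => x.1 i j) e1
      simp only [Matrix.SpecialLinearGroup.coe_neg, Matrix.neg_apply] at this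
      exact (mul_eq_zero.1 (by linear_combination this)).resolve_left h2
    have := a.2
    rw [Matrix.det_fin_two, e2 0 0, e2 0 1, zero_mul, zero_mul, sub_zero] at this
    exact zero_ne_one this
  obtain ⟨a, rfl⟩ := QuotientGroup.mk_surjective a
  obtain ⟨b, rfl⟩ := QuotientGroup.mk_surjective b
  have ent : ∀ {x y : SL(2, F)}, x * y = y * x ↔ x.1 0 1 * y.1 1 0 = y.1 0 1 * x.1 1 0 ∧
      x.1 0 1 * (y.1 0 0 - y.1 1 1) = y.1 0 1 * (x.1 0 0 - x.1 1 1) ∧
      x.1 1 0 * (y.1 0 0 - y.1 1 1) = y.1 1 0 * (x.1 0 0 - x.1 1 1) := fun {x y} => by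
    simp only [Matrix.SpecialLinearGroup.ext_iff, Fin.forall_fin_two,
      Matrix.SpecialLinearGroup.coe_mul, Matrix.mul_apply, Fin.sum_univ_two]
    exact ⟨fun ⟨⟨a, b⟩, c, _⟩ => ⟨by linear_combination a, by linear_combination -b,
      by linear_combination c⟩, fun ⟨a, b, c⟩ => ⟨⟨by linear_combination a, by linear_combination -b⟩,
        by linear_combination c, by linear_combination -a⟩⟩
  obtain ⟨a1, a2, a3⟩ := ent.1 (key a ha)
  obtain ⟨b1, b2, b3⟩ := ent.1 (key b hb)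
  refine H29.psl_comm_iff.2 (Or.inl (ent.2 ?_))
  have : g.1 0 1 ≠ 0 ∨ g.1 1 0 ≠ 0 ∨ g.1 0 0 - g.1 1 1 ≠ 0 := by
    by_contra! e
    exact g1 ((QuotientGroup.eq_one_iff _).2 (mem_center_iff.2 fun x => ent.2 (by simp [e])))
  generalize g.1 0 1 = q, g.1 1 0 = r, g.1 0 0 - g.1 1 1 = d, a.1 0 1 = x, a.1 1 0 = y,
    a.1 0 0 - a.1 1 1 = z, b.1 0 1 = x', b.1 1 0 = y', b.1 0 0 - b.1 1 1 = z' at *
  rcases this with e | e | e
  · exact ⟨mul_left_cancel₀ e (by linear_combination x * b1 - x' * a1),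
      mul_left_cancel₀ e (by linear_combination x * b2 - x' * a2),
      mul_left_cancel₀ e (by linear_combination z' * a1 - y' * a2 + x * b3)⟩
  · exact ⟨mul_left_cancel₀ e (by linear_combination y * b1 - y' * a1),
      mul_left_cancel₀ e (by linear_combination y * b2 - z' * a1 - x' * a3),
      mul_left_cancel₀ e (by linear_combination y * b3 - y' * a3)⟩
  · exact ⟨mul_left_cancel₀ e (by linear_combination x' * a3 - y' * a2 + z * b1),
      mul_left_cancel₀ e (by linear_combination z * b2 - z' * a2),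
      mul_left_cancel₀ e (by linear_combination z * b3 - z' * a3)⟩

theorem dih_or_qd {G : Type*} [Group G] [Finite G] {S : Subgroup G} (hS : IsPGroup 2 S) {a b : G}
    (ha : a ∈ S) (hb : b ∈ S) (a2 : a * a = 1) (b2 : b * b = 1) (ab : a * b = b * a) (a1 : a ≠ 1)
    (b1 : b ≠ 1) (ne : a ≠ b) (hC : ∀ g ∈ S, g * a = a * g → g = 1 ∨ g = a ∨ g = b ∨ g = a * b) :
    (∃ n, 2 ≤ n ∧ Nonempty (S ≃* DihedralGroup n)) ∨ Cfsg.IsQuasiDihedral S := by
  have hV : four a b a2 b2 ab ≤ S := by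
    rintro _ (rfl | rfl | rfl | rfl)
    exacts [one_mem _, ha, hb, mul_mem ha hb]
  have e : centralizer {(⟨a, ha⟩ : S)} = (four a b a2 b2 ab).subgroupOf S := by
    ext g
    rw [mem_centralizer_singleton_iff, mem_subgroupOf, Subtype.ext_iff]
    refine ⟨hC g g.2, ?_⟩
    rintro (e | e | e | e) <;> simp only [Subgroup.coe_mul, e]
    exacts [by simp, ab.symm, by rw [mul_assoc, ← ab]]
  have e4 : Nat.card (centralizer {(⟨a, ha⟩ : S)}) = 4 := by
    rw [e, H1.card_subgroupOf_of_le hV, card_four _ _ _ a1 b1 ne]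
  rcases Cfsg.Agent.S3224.result hS ⟨a, ha⟩ (by
    rw [orderOf_mk]; exact H9.orderOf_eq_two_of_mul_self a1 a2) e4 with ⟨n, ⟨f⟩⟩ | f | f
  · refine Or.inl ⟨n, ?_, ⟨f⟩⟩
    have := e4 ▸ card_le_card_group (centralizer {(⟨a, ha⟩ : S)})
    rw [Nat.card_congr f.toEquiv, DihedralGroup.nat_card] at this
    omega
  · exact Or.inr f
  · have : IsKleinFour S := ⟨f, by
      have ht := eq_top_of_card_eq _ (e4.trans f.symm)
      have : Nontrivial S := ⟨⟨a, ha⟩, 1, fun e => a1 (congrArg Subtype.val e)⟩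
      refine (Monoid.exponent_eq_prime_iff Nat.prime_two).2 fun g hg => ?_
      refine H9.orderOf_eq_two_of_mul_self hg (Subtype.ext ?_)
      rcases hC g g.2 (congrArg Subtype.val (mem_centralizer_singleton_iff.1
        (show g ∈ centralizer {(⟨a, ha⟩ : S)} from ht ▸ mem_top _))) with e | e | e | e <;>
        rw [Subgroup.coe_mul, e]
      exacts [mul_one _, a2, b2, by rw [mul_assoc, ← mul_assoc b, ← ab, mul_assoc, b2, mul_one, a2]; rfl]⟩
    exact Or.inl ⟨2, le_rfl, IsKleinFour.nonempty_mulEquiv⟩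

end H58.S9
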