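import Cfsg.Agent.Lib.Sym9.Cen
import Cfsg.Agent.Lib.Sym9.Gen

/-! Involutions of the normaliser of `J`. -/

set_option autoImplicit false
set_option synthInstance.maxSize 2048
set_option linter.unusedSectionVars false

namespace H58.S9

open Cfsg H53.Odd H58.N9 H58.SE Subgroup

def ws : W2 := (0, 0, 1)
def wn : W2 := ((1, 1, 1), 0, 0)
def wz : W2 := ((1, 1, 1), 0, 1)
def wv : W2 := ((1, 1, 0), 0, 0)
def we : W2 := ((0, 0, 1), 0, 0)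

theorem inv_tab : ∀ (c : Fin 4) w, xd c w.1 → mw2 w w = 0 → w ≠ 0 → ∃ m, xd c m.1 ∧
    ∃ r ∈ [we, wv, wn, ws, wz], xd c r.1 ∧ mw2 m r = mw2 w m := by decide +kernel

variable {G : Type*} [Group G] [Finite G] {J : Subgroup G} {c : Fin 4} {φ : M2 → G}

theorem p23 {P : Subgroup G} (hP : IsPGroup 2 P) {g : G} (hg : g ∈ P) {n : ℕ} (e : g ^ (4 * 3 ^ n) = 1) :
    g ^ 4 = 1 := by
  obtain ⟨k, hk⟩ := hP ⟨g ^ 4, pow_mem hg 4⟩
  have := pow_gcd_eq_one.2 ⟨(congrArg Subtype.val hk : (g ^ 4) ^ 2 ^ k = 1), pow_mul g 4 _ ▸ e⟩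
  rwa [(Nat.Coprime.pow k n (by norm_num)).gcd_eq_one, pow_one] at this

theorem p21 {P : Subgroup G} (hP : IsPGroup 2 P) {g : G} (hg : g ∈ P) {n : ℕ} (e : g ^ 3 ^ n = 1) :
    g = 1 := by
  obtain ⟨k, hk⟩ := hP ⟨g, hg⟩
  have := pow_gcd_eq_one.2 ⟨(congrArg Subtype.val hk : g ^ 2 ^ k = 1), e⟩
  rwa [(Nat.Coprime.pow k n (by norm_num)).gcd_eq_one, pow_one] at this

namespace St

variable (h : St c J φ)
include h

theorem aW {w : W2} (hw : xd c w.1) : A φ (φ (0, w)) w := h.act (p := (0, w)) hw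

theorem mW {w : W2} (hw : xd c w.1) : φ (0, w) ∈ NJ J := h.mH (p := (0, w)) hw

theorem sqW {w : W2} (hw : xd c w.1) (e : mw2 w w = 0) : φ (0, w) * φ (0, w) = 1 := by
  rw [← h.homW hw hw, e]; exact h.one

theorem neW {w w' : W2} (hw : xd c w.1) (hw' : xd c w'.1) (e : w ≠ w') : φ (0, w) ≠ φ (0, w') :=
  fun f => e (congrArg Prod.snd (h.inj _ _ hw hw' f))

theorem ne1 {w : W2} (hw : xd c w.1) (e : w ≠ 0) : φ (0, w) ≠ 1 := h.one ▸ h.neW hw (xd_zero c) e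

theorem cmW {w w' : W2} (hw : xd c w.1) (hw' : xd c w'.1) (e : mw2 w w' = mw2 w' w) :
    φ (0, w) * φ (0, w') = φ (0, w') * φ (0, w) := by rw [← h.homW hw hw', ← h.homW hw' hw, e]

theorem cmA {g g' : G} {w w' : W2} (a : A φ g w) (b : A φ g' w') (e : g * g' = g' * g) :
    mw2 w w' = mw2 w' w := h.jf.uniq (a.mul b) (e ▸ b.mul a)

theorem brJ {g g' : G} {w w' : W2} (a : A φ g w) (b : A φ g' w') (e : mw2 w w' = mw2 w' w) :
    g * g' * g⁻¹ * g'⁻¹ ∈ J := by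
  have := h.div' (a.mul b) (e ▸ b.mul a)
  rwa [mul_inv_rev, ← mul_assoc] at this

theorem inv_cls {g : G} (hg : g ∈ NJ J) (g2 : g * g = 1) (g1 : g ≠ 1) : ∃ k ∈ NJ J,
    ∃ r ∈ [we, wv, wn, ws, wz], xd c r.1 ∧ k * φ (0, r) * k⁻¹ = g := by
  obtain ⟨⟨u, w⟩, hp, rfl⟩ := (h.mem g).1 hg
  rw [← h.hom _ _ hp hp, ← h.one] at g2
  have e := h.inj _ _ (xd_mw c _ _ hp hp) (xd_zero c) g2
  have e1 : u + ac w u = 0 := congrArg Prod.fst e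
  obtain ⟨m, hm, r, hr, hr', e2⟩ := inv_tab c w hp (congrArg Prod.snd e) (by
    rintro rfl
    obtain rfl : u = 0 := by clear * - e1; revert u; decide +kernel
    exact g1 h.one)
  refine ⟨φ (-u, m), h.mH hm, r, hr, hr', (h.conj_iff hm hr' hp).2 (Prod.ext ?_ e2)⟩
  show -u + ac m 0 = u + ac w (-u)
  rw [ac_0]
  clear * - e1; revert w u; decide +kernel

theorem scJ {u : V27} (hu : kap u ≠ 3) {g : G} (hg : g * φ (u, 0) * g⁻¹ ∈ NJ J) :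
    g * φ (u, 0) * g⁻¹ ∈ J := by
  obtain ⟨w, hw, a⟩ := h.ex hg
  by_cases e : w = 0
  · exact h.cJ (e ▸ a)
  have w3 : pww w 3 = 0 := h.jf.uniq (a.pow 3) (SE.conj_cube (h.cube u) ▸ ac_one)
  obtain ⟨m, hm, e1⟩ := (by decide +kernel : ∀ (c : Fin 4) w, xd c w.1 → pww w 3 = 0 → w ≠ 0 →
    ∃ m, xd c m.1 ∧ ac w (ac m x0) = ac m x0) c w hw w3 e
  have u0 : u ≠ 0 := by
    rintro rfl
    rw [h.one, mul_one, mul_inv_cancel] at a
    exact e (h.jf.uniq a ac_one)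
  have mL : ∀ {g}, g ∈ centralizer {φ (u, 0)} ↔ g * φ (u, 0) = φ (u, 0) * g :=
    mem_centralizer_singleton_iff
  obtain ⟨P, hP⟩ := h.sylJ (L := centralizer {φ (u, 0)}) (fun g hg => mL.2 (h.commJ hg (h.mJ u)))
    fun g hg w _ a => (by decide +kernel : ∀ u w, u ≠ 0 → kap u ≠ 3 → ac w u = u → pww w 4 = 0) u w u0 hu
      ((h.fix a).1 (mL.1 hg))
  obtain ⟨k, hk, e2⟩ := exists_conj_le P hP (B := zpowers (g⁻¹ * φ (ac m x0, 0) * g⁻¹⁻¹))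
    (zpowers_le.2 (mL.2 (SE.comm_of_conj (g := g) (by simpa [mul_assoc] using ((h.fix a).2 e1).symm))))
    (H9.isPGroup_zpowers_of_pow (a := 1) (SE.conj_cube (h.cube _)))
  obtain ⟨v, hv⟩ := (h.memJ _).1 (e2 _ (mem_zpowers _))
  obtain ⟨l, l1, l2⟩ := h.fus (g := g * k⁻¹) (u := v) (v := ac m x0) (by rw [hv]; group)
  have := (mem_normalizer_iff.1 ((mul_mem_cancel_left (h.cent_cj hm (Or.inl rfl) h.cx l1)).1 l2) _).1
    (h.mJ u)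
  rwa [mul_assoc g, (Commute.inv_left (mL.1 hk)).eq, mul_inv_rev, inv_inv, ← mul_assoc, ← mul_assoc,
    inv_mul_cancel_right] at this

theorem ufJ {u : V27} (hu : kap u ≠ 3) (hc : ∀ v, kap u = kap v → ∀ g,
    g * φ (v, 0) = φ (v, 0) * g → g ∈ NJ J) : UF (NJ J) (φ (u, 0)) := fun g hg => by
  obtain ⟨v, hv⟩ := (h.memJ _).1 (h.scJ hu hg)
  obtain ⟨k, k1, k2⟩ := h.fus hv.symm
  exact (mul_mem_cancel_left (hc v (h.kap_eq hv.symm) k k1)).1 k2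

theorem conjW {r r' : W2} (hr : xd c r.1) (hr' : xd c r'.1) {k : G} (hk : k ∈ NJ J)
    (e : k * φ (0, r) * k⁻¹ = φ (0, r')) : ∃ m, xd c m.1 ∧ mw2 m r = mw2 r' m := by
  obtain ⟨p, hp, rfl⟩ := (h.mem k).1 hk
  exact ⟨p.2, hp, congrArg Prod.snd ((h.conj_iff hp hr hr').1 e)⟩

theorem fuseW {r r' : W2} {u u' : V27} (hu : UF (NJ J) (φ (u, 0))) (hu' : UF (NJ J) (φ (u', 0)))
    (e : xd c r.1 ∧ xd c r'.1 ∧ ac r u = u ∧ ac r' u' = u') {g : G}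
    (hg : g * φ (0, r) * g⁻¹ = φ (0, r')) : ∃ k ∈ NJ J, k * φ (0, r) * k⁻¹ = φ (0, r') := by
  have : Fact (Nat.Prime 3) := ⟨by norm_num⟩
  exact hg ▸ fuse_p (p := 3) hu (h.cube u) ((h.fix (h.aW e.1)).2 e.2.2.1).symm (le_normalizer (h.mJ u')) hu'
    (h.cube u') (hg ▸ ((h.fix (h.aW e.2.1)).2 e.2.2.2).symm)

theorem nconj {r r' : W2} {u u' : V27} (hu : UF (NJ J) (φ (u, 0))) (hu' : UF (NJ J) (φ (u', 0)))
    (e : (xd c r.1 ∧ xd c r'.1 ∧ ac r u = u ∧ ac r' u' = u') ∧ ∀ m, mw2 m r ≠ mw2 r' m) (g : G) :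
    g * φ (0, r) * g⁻¹ ≠ φ (0, r') := fun hg => by
  obtain ⟨k, hk, f⟩ := h.fuseW hu hu' e.1 hg
  obtain ⟨m, -, f⟩ := h.conjW e.1.1 e.1.2.1 hk f
  exact e.2 m f

end St

end H58.S9
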