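import Cfsg.Agent.Lib.Sym9.Inv
import Cfsg.Agent.Lib.A9.Loc

/-! The normaliser of a 3-cycle in the symmetric group of degree nine. -/

set_option autoImplicit false
set_option synthInstance.maxSize 2048

namespace H58.S9

open Equiv Equiv.Perm H58.Cd H58.SE H53.Odd H58.N9 Subgroup
open scoped commutatorElement

def T0 : P9 := swap 0 1
def T2 : P9 := swap 3 4
def T3 : P9 := swap 6 7

def sp2 (w : W2) : P9 :=
  T0 ^ w.1.1.val * T2 ^ w.1.2.1.val * T3 ^ w.1.2.2.val * π0 ^ w.2.1.val * σ0 ^ w.2.2.val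

def pm2 (p : M2) : P9 := f27 e1 e2 e3 p.1 * sp2 p.2

def N2 : Subgroup P9 := closure (Set.range pm2)

theorem cT0 : code T0 = 36344967681 := by decide +kernel
theorem cT2 : code T2 = 36344906256 := by decide +kernel
theorem cT3 : code T3 = 36093309456 := by decide +kernel
theorem cσ0 : code σ0 = 36341613891 := by decide +kernel

theorem mdl2 : Mdl N2 mul2 pm2 := by
  have hs : ∀ w w', sp2 (mw2 w w') = sp2 w * sp2 w' := by
    simp only [sp2, Cd.eq_iff (n := 9), code_mul, code_pow, cT0, cT2, cT3, cπ, cσ0]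
    decide +kernel
  have ha : ∀ w u, sp2 w * f27 e1 e2 e3 u * (sp2 w)⁻¹ = f27 e1 e2 e3 (ac w u) := by
    simp only [mul_inv_eq_iff_eq_mul]
    simp only [sp2, f27, Cd.eq_iff (n := 9), code_mul, code_pow, cT0, cT2, cT3, cπ, cσ0, ce1, ce2, ce3]
    decide +kernel
  refine mdl_sd ah0 (fun u v e => congrArg Prod.fst (mdl0.inj (a₁ := (u, 0)) (a₂ := (v, 0))
    (by rwa [pm_J, pm_J]))) hs ha ac_inj fun g => ⟨fun hg => ?_, fun ⟨u, w, e⟩ =>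
      subset_closure ⟨(u, w), e⟩⟩
  refine mem_of_closure (P := fun g => ∃ u w, f27 e1 e2 e3 u * sp2 w = g)
    ⟨0, 0, by decide +kernel⟩ (by rintro _ ⟨p, e⟩; exact ⟨p.1, p.2, e⟩) ?_ hg
  rintro _ _ ⟨u, w, rfl⟩ ⟨u', w', rfl⟩
  exact ⟨u + ac w u', mw2 w w', by rw [ah0, hs, ← ha]; group⟩

theorem pm2_mem (p : M2) : pm2 p ∈ N2 := subset_closure ⟨p, rfl⟩

theorem pm2_pw (p : M2) : ∀ n, pm2 p ^ n = pm2 (pw2 p n)
  | 0 => by rw [pow_zero]; exact (by decide +kernel : 1 = pm2 0)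
  | n + 1 => by rw [pow_succ, pm2_pw p n, ← mdl2.hom]; rfl

/-- normalising `⟨e⟩` -/
def nz2 (e q : P9) : Prop := q * e * q⁻¹ = e ∨ q * e * q⁻¹ = e⁻¹

instance decNz2 (e q : P9) : Decidable (nz2 e q) := by unfold nz2; infer_instance

variable {G : Type*} [Group G] {J : Subgroup G} {φ : M2 → G}

/-- a model of the normaliser of `⟨e⟩` -/
structure Lc2 (φ : M2 → G) (m : PH P9 G) (e : P9) : Prop where
  S : ∀ {q}, q ∈ m.S ↔ nz2 e q
  ag : ∀ p, pm2 p ∈ m.S → m.f (pm2 p) = φ p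
  rng : ∀ g, g * m.f e * g⁻¹ = m.f e ∨ g * m.f e * g⁻¹ = (m.f e)⁻¹ → g ∈ m.range

theorem Lc2.ag' {m : PH P9 G} {e : P9} (l : Lc2 φ m e) (p : M2) {q : P9} (h : pm2 p = q ∧ nz2 e q) :
    m.f q = φ p := h.1 ▸ l.ag p (l.S.2 (h.1 ▸ h.2))

theorem Lc2.tw {H : Subgroup G} (h : Mdl H mul2 φ) {m : PH P9 G} {e : P9} (l : Lc2 φ m e) (p : M2) :
    ∃ n, Lc2 φ n (pm2 p * e * (pm2 p)⁻¹) := by
  refine ⟨(m.cj (φ p)).comapEquiv (MulAut.conj (pm2 p)⁻¹), fun {q} => l.S.trans ?_, fun r hr => ?_,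
    fun g hg => ?_⟩
  · refine or_congr ?_ ?_ <;>
    · rw [← (MulAut.conj (pm2 p)).injective.eq_iff]; simp [mul_assoc]
  · obtain ⟨r', e⟩ := (mdl2.mem _).1 (mul_mem (mul_mem (inv_mem (pm2_mem p)) (pm2_mem r))
      (inv_mem (inv_mem (pm2_mem p))))
    change φ p * m.f (_ * _ * _) * _ = _
    rw [← e, l.ag r' (e ▸ hr), h.conj_iff, ← mdl2.conj_iff, e]; group
  · rw [PH.range_comapEquiv]
    have e1 : ((m.cj (φ p)).comapEquiv (MulAut.conj (pm2 p)⁻¹)).f (pm2 p * e * (pm2 p)⁻¹) =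
      φ p * m.f e * (φ p)⁻¹ := by simp [PH.comapEquiv, PH.cj, mul_assoc]
    rw [e1] at hg
    obtain ⟨q, hq, e2⟩ := m.mem_range.1 (l.rng ((φ p)⁻¹ * g * φ p) (hg.imp
      (fun e => by rw [← (MulAut.conj (φ p)).injective.eq_iff]; simpa [mul_assoc] using e)
      fun e => by rw [← (MulAut.conj (φ p)).injective.eq_iff]; simpa [mul_assoc] using e))
    exact (PH.mem_range _).2 ⟨q, hq, by simp [PH.cj, e2, mul_assoc]⟩

def ρ2 : M2 := (0, (1, 0, 0), 0, 1)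
def τ2 (t : ZMod 3 × ZMod 2 × ZMod 2) : M2 := ((0, 0, t.1), (0, t.2.2, t.2.1), 0, 0)

theorem r8 : ∀ v, pw2 (mul2 ρ2 (v, 0)) 4 = 0 → ∃ d : V27, d.2.2 = 0 ∧
    mul2 (d, 0) (mul2 ρ2 (v, 0)) = mul2 ρ2 (d, 0) := by decide +kernel

theorem r9 : ∀ p, k0 (pm2 p) → p.1.2.2 = 0 ∧ ∃ i : Fin 4, p = mul2 (p.1, 0) (pw2 ρ2 i) := by
  simp only [k0_iff, pm2, sp2, f27, code_mul, code_pow, cT0, cT2, cT3, cπ, cσ0, ce1, ce2, ce3]
  decide +kernel

theorem r10 : ∀ t t', t = t' ∨ ∃ p, mul2 p (τ2 t') = τ2 t ∧ (ac p.2 (rep 1) ≠ rep 1 ∨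
    p.2 = 0 ∧ p.1.2.2 ≠ 0 ∨ ac p.2 (1, 0, 0) = (1, 0, 0) ∧ ac p.2 (0, 1, 0) ≠ (0, 1, 0)) := by
  decide +kernel

theorem r11 {q : P9} (h : q * e1 = e1 * q) : k0 q → q * e2 = e2 * q := by
  simp only [k0_iff, Cd.eq_iff (n := 9), code_mul, ce2]
  refine fc 9 _ (code q) ⟨e1⁻¹, q, rfl, rfl, (Commute.inv_right h).eq⟩ ?_
  decide +kernel

theorem dec2 {q : P9} (h : nz2 e3 q) : ∃ t, q * (pm2 (τ2 t))⁻¹ ∈ K0 := by
  have key : ∀ q, nz e3 q → ∃ t, q * (pm2 (τ2 t))⁻¹ ∈ K0 := fun q h => by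
    obtain ⟨t, ht⟩ := dec3' h
    exact ⟨(t.1, t.2, t.2), (show pm (τ3 t) = pm2 (τ2 (t.1, t.2, t.2)) by
      clear * -; revert t; decide +kernel) ▸ ht⟩
  by_cases e : evn q
  · exact key q ⟨e, h⟩
  obtain ⟨t, ht⟩ := key (q * T2⁻¹) ⟨by
    rw [evn, map_mul, (Int.units_eq_one_or _).resolve_left e,
      show sign T2⁻¹ = -1 by simp [T2]]; rfl, by
    rwa [show q * T2⁻¹ * e3 * (q * T2⁻¹)⁻¹ = q * (T2⁻¹ * e3 * T2) * q⁻¹ by group,
      show T2⁻¹ * e3 * T2 = e3 by decide +kernel]⟩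
  refine ⟨(t.1, t.2.1, t.2.2 + 1), ?_⟩
  rwa [mul_assoc, show T2⁻¹ * (pm2 (τ2 t))⁻¹ = (pm2 (τ2 (t.1, t.2.1, t.2.2 + 1)))⁻¹ by
    clear * -; revert t; decide +kernel] at ht

theorem K0_e3 {q : P9} (hq : q ∈ K0) : q * e3 = e3 * q :=
  mem_centralizer_singleton_iff.1 (gen_xk (F := centralizer {e3}) (fun i =>
    mem_centralizer_singleton_iff.2 (by clear * -; revert i; decide +kernel)) hq)

variable [Finite G]

theorem St.exA6 (h : St 3 J φ) {K : Subgroup G} (hK : Spl K (φ (rep 1, 0))) (θ : K ≃* P6) :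
    ∃ N ≤ K, Nonempty (N ≃* A6) ∧ (∀ v, φ (v, 0) ∈ N ↔ v.2.2 = 0) ∧
      (∀ p : M2, ac p.2 (rep 1) = rep 1 ∨ ac p.2 (rep 1) = -rep 1 → ∀ k ∈ N, φ p * k * (φ p)⁻¹ ∈ N) ∧
      ∀ k ∈ K, ∀ k' ∈ K, k ∉ N → k' ∉ N → k * k' ∈ N := by
  let f := K.subtype.comp θ.symm.toMonoidHom
  have hf : Function.Injective f := K.subtype_injective.comp θ.symm.injective
  have mN : ∀ k : K, (k : G) ∈ A6.map f ↔ sign (θ k) = 1 := fun k => by
    rw [show (k : G) = f (θ k) by simp [f], mem_map_iff_mem hf, mem_alternatingGroup]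
  have hle : A6.map f ≤ K := by rintro _ ⟨p, -, rfl⟩; exact (θ.symm p).2
  have eN : A6.map f = ⁅K, K⁆ := by
    rw [A6, ← alternatingGroup.commutator_perm_eq (by simp), commutator_def, map_commutator,
      ← map_map, map_top_of_surjective _ θ.symm.surjective, ← MonoidHom.range_eq_map, range_subtype]
  have cc : ∀ a b, a * φ (rep 1, 0) = φ (rep 1, 0) * a → b * φ (rep 1, 0) = φ (rep 1, 0) * b →
      ⁅a, b⁆ ∈ ⁅K, K⁆ := fun a b ha hb => by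
    obtain ⟨i, hi⟩ := hK.dec a ha
    obtain ⟨j, hj⟩ := hK.dec b hb
    have := commutator_mem_commutator hi hj
    have c1 : Commute (φ (rep 1, 0) ^ i) (b * φ (rep 1, 0) ^ j) :=
      (Commute.mul_right hb.symm ((Commute.refl _).pow_right j)).pow_left i
    have c2 : Commute (φ (rep 1, 0) ^ j) a⁻¹ := (Commute.pow_left ha.symm j).inv_right
    generalize φ (rep 1, 0) ^ i = z, φ (rep 1, 0) ^ j = w at *
    rwa [show ⁅a * z, b * w⁆ = a * (z * (b * w)) * z⁻¹ * a⁻¹ * (b * w)⁻¹ by group, c1.eq,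
      show a * (b * w * z) * z⁻¹ * a⁻¹ * (b * w)⁻¹ = a * b * (w * a⁻¹) * w⁻¹ * b⁻¹ by group, c2.eq,
      show a * b * (a⁻¹ * w) * w⁻¹ * b⁻¹ = ⁅a, b⁆ by group] at this
  refine ⟨_, hle, ⟨(A6.equivMapOfInjective f hf).symm⟩, fun v => ⟨fun e => (h.mem_K hK).1 (hle e),
    fun e => (mN ⟨_, (h.mem_K hK).2 e⟩).2 ?_⟩, fun p hp k hk => ?_, fun k hk k' hk' a b => ?_⟩
  · have : sign (θ ⟨_, (h.mem_K hK).2 e⟩) ^ 3 = 1 := by
      rw [← map_pow, ← map_pow, show (⟨_, (h.mem_K hK).2 e⟩ : K) ^ 3 = 1 from Subtype.ext (h.cube v)]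
      simp
    exact (Int.units_eq_one_or _).resolve_right fun f => by rw [f] at this; exact absurd this (by decide)
  · have key : ∀ a ∈ K, φ p * a * (φ p)⁻¹ * φ (rep 1, 0) = φ (rep 1, 0) * (φ p * a * (φ p)⁻¹) :=
      fun a ha => by
        have := SE.conj_comm (g := φ p) (hK.comm ha)
        rw [(h.act (h.x3 _)).cj] at this
        rcases hp with e | e <;> rw [e] at this
        · exact this
        · simpa only [h.neg, inv_inv] using (Commute.inv_right this).eq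
    rw [eN] at hk ⊢
    refine (commutator_le.2 fun a ha b hb => ?_ :
      ⁅K, K⁆ ≤ ⁅K, K⁆.comap (MulAut.conj (φ p)).toMonoidHom) hk
    rw [mem_comap, map_commutatorElement]
    exact cc _ _ (key a ha) (key b hb)
  · refine (mN (⟨k, hk⟩ * ⟨k', hk'⟩)).2 ?_
    rw [map_mul, map_mul, (Int.units_eq_one_or _).resolve_left (mt (mN ⟨k, hk⟩).2 a),
      (Int.units_eq_one_or _).resolve_left (mt (mN ⟨k', hk'⟩).2 b)]; rfl

end H58.S9
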