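import Cfsg.Agent.Lib.Sym9.Lc

/-! Existence of the model of the normaliser of a 3-cycle. -/

set_option autoImplicit false
set_option synthInstance.maxSize 2048

namespace H58.S9

open Equiv Equiv.Perm H58.Cd H58.SE H53.Odd H58.N9 Subgroup

variable {G : Type*} [Group G] [Finite G] {J : Subgroup G} {φ : M2 → G}

theorem St.cen3 {c : Fin 4} (h : St c J φ) {g : G}
    (e : ∀ j : Fin 3, φ (ro j (1, 0, 0), 0) * g = g * φ (ro j (1, 0, 0), 0)) : g ∈ J := h.cJ fun u => by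
  rw [ac_zero, mul_inv_eq_iff_eq_mul]
  exact (mem_centralizer_singleton_iff.1 (h.span (B := centralizer {g})
    (fun j => mem_centralizer_singleton_iff.2 (e j)) (h.mJ u))).symm

theorem pm2_cj (p : M2) (u : V27) : pm2 p * pm2 (u, 0) * (pm2 p)⁻¹ = pm2 (ac p.2 u, 0) :=
  (mdl2.conj_iff _ _ _).2 (mul_cj p u)

theorem St.exists_lc (h : St 3 J φ) {K : Subgroup G} (hK : Spl K (φ (rep 1, 0))) (θ : K ≃* P6) :
    ∃ m, Lc2 φ m e3 := by
  have M := h.mdl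
  obtain ⟨N, hNK, ⟨θ⟩, hD, hn, hF⟩ := h.exA6 hK θ
  have hc : ∀ k ∈ N, k * φ (rep 1, 0) = φ (rep 1, 0) * k := fun k hk => hK.comm (hNK hk)
  have fx : ∀ p u, φ p * φ (u, 0) = φ (u, 0) * φ p ↔ ac p.2 u = u := fun p u => h.fix (h.act (h.x3 _))
  obtain ⟨m, hS, hR, f1, f2⟩ := exists_mK θ (p := ⟨_, (hD (1, 0, 0)).2 rfl⟩)
    (q := ⟨_, (hD (0, 1, 0)).2 rfl⟩) (by
      simp only [Pr, Subtype.ext_iff, ne_eq, Subgroup.coe_mul, Subgroup.coe_inv, Subgroup.coe_one,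
        Subgroup.coe_pow, ← h.neg, ← h.add, h.cube, ← h.one, h.injJ]
      refine ⟨trivial, trivial, by decide, by decide, by decide, by decide, by decide,
        fun k => ⟨fun e => ?_, fun e => ?_⟩⟩ <;> exact absurd (h.kap_eq e) (by decide))
  have hm : ∀ {q}, k0 q → q ∈ m.S := fun hq => hS ▸ mem_K0.2 hq
  have m1 : e1 ∈ m.S := hm (by decide +kernel)
  have m2 : e2 ∈ m.S := hm (by decide +kernel)
  have agD : ∀ v : V27, v.2.2 = 0 → pm2 (v, 0) ∈ m.S ∧ m.f (pm2 (v, 0)) = φ (v, 0) := fun v hv => by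
    obtain ⟨e, e'⟩ : v = v.1.val • ((1, 0, 0) : V27) + v.2.1.val • (0, 1, 0) ∧
        pm2 (v, 0) = e1 ^ v.1.val * e2 ^ v.2.1.val := by
      clear * - hv; revert v; decide +kernel
    rw [e', m.mul (pow_mem m1 _) (pow_mem m2 _), m.pow m1, m.pow m2, f1, f2, ← h.nsmul, ← h.nsmul,
      ← h.add, ← e]
    exact ⟨mul_mem (pow_mem m1 _) (pow_mem m2 _), rfl⟩
  have mr : pm2 ρ2 ∈ m.S := hm (by decide +kernel)
  obtain ⟨v, hv⟩ := (h.memJ _).1 (h.cen3 (g := (φ ρ2)⁻¹ * m.f (pm2 ρ2)) fun j => by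
    have : m.f (pm2 ρ2) * φ (ro j (1, 0, 0), 0) * (m.f (pm2 ρ2))⁻¹ =
        φ ρ2 * φ (ro j (1, 0, 0), 0) * (φ ρ2)⁻¹ := by
      rw [(h.act (h.x3 _)).cj]
      rcases (show (ro j (1, 0, 0) : V27).2.2 = 0 ∧ (ac ρ2.2 (ro j (1, 0, 0))).2.2 = 0 ∨
        ro j (1, 0, 0) = rep 1 by clear * -; revert j; decide +kernel) with e | e
      · rw [← (agD _ e.1).2, ← m.conj mr (agD _ e.1).1, pm2_cj, (agD _ e.2).2]
      · rw [e, hc _ (hR ▸ m.f_mem mr), mul_inv_cancel_right]; rfl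
    calc _ = (φ ρ2)⁻¹ * (φ ρ2 * φ (ro j (1, 0, 0), 0) * (φ ρ2)⁻¹) * m.f (pm2 ρ2) := by group
      _ = _ := by rw [← this]; group)
  rw [eq_inv_mul_iff_mul_eq, ← M.hom] at hv
  obtain ⟨d, hd, hd'⟩ := r8 v ((h.pw1 (h.x3 _)).1 (hv ▸ (m.pow_eq_one_iff mr 4).2 (by decide +kernel)))
  rw [← M.conj_iff, hv] at hd'
  let n := m.cj (φ (d, 0))
  have hnf : ∀ q, n.f q = φ (d, 0) * m.f q * (φ (d, 0))⁻¹ := fun _ => rfl
  have hdN := (hD d).2 hd
  have nR : ∀ {g}, g ∈ n.range ↔ g ∈ N := fun {g} => by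
    rw [PH.mem_range, ← hR]
    refine ⟨fun ⟨q, hq, e⟩ => e ▸ mul_mem (mul_mem (hR ▸ hdN) (m.f_mem hq)) (inv_mem (hR ▸ hdN)),
      fun hg => ?_⟩
    obtain ⟨q, hq, e⟩ := m.mem_range.1 (mul_mem (mul_mem (inv_mem (hR ▸ hdN)) hg) (hR ▸ hdN))
    exact ⟨q, hq, by rw [hnf, e]; group⟩
  have ag0 : ∀ p, pm2 p ∈ K0 → n.f (pm2 p) = φ p := fun p hp => by
    obtain ⟨e1, i, e2⟩ := r9 p (mem_K0.1 hp)
    rw [e2, mdl2.hom, M.hom, ← pm2_pw, ← h.pw (h.x3 _), n.mul (agD _ e1).1 (pow_mem mr _), n.pow mr,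
      hnf, hnf, hd', (agD _ e1).2, h.JJ d, mul_inv_cancel_right]
  have nS : n.S = K0 := hS
  clear_value n
  have hτ : ∀ t, ac (τ2 t).2 (rep 1) = rep 1 ∨ ac (τ2 t).2 (rep 1) = -rep 1 := by decide +kernel
  have act0 : ∀ t, K0 ≤ eqS (n.cj (φ (τ2 t))) (n.comapEquiv (MulAut.conj (pm2 (τ2 t)))) := fun t => by
    have hE : ∀ {k}, k ∈ eqS (n.cj (φ (τ2 t))) (n.comapEquiv (MulAut.conj (pm2 (τ2 t)))) ↔ k ∈ n.S ∧
      pm2 (τ2 t) * k * (pm2 (τ2 t))⁻¹ ∈ n.S ∧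
        φ (τ2 t) * n.f k * (φ (τ2 t))⁻¹ = n.f (pm2 (τ2 t) * k * (pm2 (τ2 t))⁻¹) := Iff.rfl
    have k1 : ∀ k, (∃ p, pm2 p = k) → k0 k → k0 (pm2 (τ2 t) * k * (pm2 (τ2 t))⁻¹) →
        k ∈ eqS (n.cj (φ (τ2 t))) (n.comapEquiv (MulAut.conj (pm2 (τ2 t)))) := by
      rintro _ ⟨p, rfl⟩ h1 h2
      obtain ⟨r, hr⟩ := (mdl2.mem _).1 (mul_mem (mul_mem (pm2_mem (τ2 t)) (pm2_mem p))
        (inv_mem (pm2_mem (τ2 t))))
      refine hE.2 ⟨nS ▸ mem_K0.2 h1, nS ▸ mem_K0.2 h2, ?_⟩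
      rw [← hr, ag0 p (mem_K0.2 h1), ag0 r (hr ▸ mem_K0.2 h2), M.conj_iff, ← mdl2.conj_iff, hr]
    have m1 := k1 e1 ⟨((1, 0, 0), 0), by decide +kernel⟩ (by decide +kernel)
      (by clear * -; revert t; decide +kernel)
    have m2 := k1 e2 ⟨((0, 1, 0), 0), by decide +kernel⟩ (by decide +kernel)
      (by clear * -; revert t; decide +kernel)
    have m3 := k1 om ⟨((2, 0, 0), (1, 1, 0), 0, 0), by decide +kernel⟩ (by decide +kernel)
      (by clear * -; revert t; decide +kernel)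
    have m4 := k1 ap1 ⟨((2, 2, 0), (1, 1, 0), 0, 0), by decide +kernel⟩ (by decide +kernel)
      (by clear * -; revert t; decide +kernel)
    have m5 : a1 * u1 ∈ eqS (n.cj (φ (τ2 t))) (n.comapEquiv (MulAut.conj (pm2 (τ2 t)))) := by
      have ms : a1 * u1 ∈ n.S := nS ▸ mem_K0.2 (by decide +kernel)
      have ms' : pm2 (τ2 t) * (a1 * u1) * (pm2 (τ2 t))⁻¹ ∈ n.S :=
        nS ▸ mem_K0.2 (by clear * -; revert t; decide +kernel)
      obtain ⟨q, hq, e⟩ := n.mem_range.1 (nR.2 ((mem_normalizer_iff.1 (mem_normalizer_of_le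
        (hn _ (hτ t))) ((φ (τ2 t))⁻¹ * n.f _ * φ (τ2 t))).2
          (by simpa [mul_assoc] using nR.1 (n.f_mem ms'))))
      replace e : φ (τ2 t) * n.f q * (φ (τ2 t))⁻¹ = n.f (pm2 (τ2 t) * (a1 * u1) * (pm2 (τ2 t))⁻¹) := by
        rw [e]; group
      obtain ⟨a3, b3, c3⟩ := hE.1 m3
      obtain ⟨a4, b4, c4⟩ := hE.1 m4
      obtain rfl := s_key (q := q) ((n.comm_iff hq a4).1 (comm_of_conj (g := φ (τ2 t)) (by
          rw [e, c4, n.comm_iff ms' b4]; exact SE.conj_comm (by decide +kernel))))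
        (mem_K0.1 (nS ▸ hq)) (by
          rintro rfl
          exact absurd (n.inj b4 ms' (c4.symm.trans e)) (by clear * -; revert t; decide +kernel))
        ((n.mul_eq_one_iff hq hq).1 (by
          rw [← conj_eq_one_iff (a := φ (τ2 t)), ← conj_mul, e, n.mul_eq_one_iff ms' ms']
          exact conj_sq (by decide +kernel)))
        ((n.pow_eq_one_iff (mul_mem hq a3) 3).1 (by
          rw [← conj_eq_one_iff (a := φ (τ2 t)), ← conj_pow, n.mul hq a3, ← conj_mul, e, c3,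
            ← n.mul ms' b3, n.pow_eq_one_iff (mul_mem ms' b3), conj_mul]
          exact conj_cube (by decide +kernel)))
      exact hE.2 ⟨ms, ms', e⟩
    refine gen_xk fun i => ?_
    unfold xk; split_ifs
    exacts [m2, mul_mem (mul_mem (pow_mem m1 _) (mul_mem m5 m3)) (inv_mem (pow_mem m1 _))]
  have nN : ∀ p : M2, ac p.2 (1, 0, 0) = (1, 0, 0) → φ p ∈ N → ac p.2 (0, 1, 0) = (0, 1, 0) :=
    fun p e hp => by
      obtain ⟨q, hq, f⟩ := n.mem_range.1 (nR.2 hp)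
      have k1 : ∀ v : V27, k0 (pm2 (v, 0)) → (q * pm2 (v, 0) = pm2 (v, 0) * q ↔ ac p.2 v = v) :=
        fun v hv => by rw [← n.comm_iff hq (nS ▸ mem_K0.2 hv), ag0 _ (mem_K0.2 hv), f, fx]
      exact (k1 _ (by decide +kernel)).1 (r11 ((k1 _ (by decide +kernel)).2 e) (mem_K0.1 (nS ▸ hq)))
  have hz : ∀ {q}, q ∈ normalizer (zpowers e3 : Set P9) ↔ nz2 e3 q :=
    St.mem_norm_zpowers (by decide +kernel) (by decide +kernel)
  obtain ⟨l, lS, lf⟩ := exists_sdp n (fun t => pm2 (τ2 t)) (fun t => φ (τ2 t)) (fun i j => by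
      obtain ⟨l, e⟩ : ∃ l, τ2 l = mul2 (τ2 i) (τ2 j) := by clear * -; revert i j; decide +kernel
      exact ⟨l, e ▸ mdl2.hom _ _, e ▸ M.hom _ _⟩) (fun t k hk => (act0 t (nS ▸ hk)).2) _
    (fun q hq => nS ▸ dec2 (hz.1 hq))
    (fun i j e => by
      have := mem_K0.1 (nS ▸ e)
      clear * - this; revert i j; decide +kernel)
    fun i j e => (r10 i j).elim id fun ⟨p, e1, e2⟩ => by
      rw [← e1, M.hom, mul_inv_cancel_right, nR] at e
      rcases e2 with e2 | ⟨e2, e3⟩ | ⟨e2, e3⟩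
      · exact absurd ((fx _ _).1 (hc _ e)) e2
      · exact absurd ((hD p.1).1 (e2 ▸ e)) e3
      · exact absurd (nN p e2 e) e3
  have ag : ∀ p, pm2 p ∈ l.S → l.f (pm2 p) = φ p := fun p hp => by
    obtain ⟨t, ht⟩ := dec2 (hz.1 (lS ▸ hp))
    obtain ⟨r, hr⟩ := (mdl2.mem _).1 (mul_mem (pm2_mem p) (inv_mem (pm2_mem (τ2 t))))
    have e : pm2 p = pm2 r * pm2 (τ2 t) := by rw [hr]; simp
    rw [e, lf _ (nS ▸ hr ▸ ht), ag0 r (hr ▸ ht), ← M.hom, mdl2.inj (e.trans (mdl2.hom _ _).symm)]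
  have lm : ∀ {q}, q ∈ l.S ↔ nz2 e3 q := lS ▸ hz
  have e3' : pm2 (rep 1, 0) = e3 := by decide +kernel
  refine ⟨l, lm, ag, fun g hg => ?_⟩
  rw [← e3', ag _ (lm.2 (by decide +kernel))] at hg
  have mτ : ∀ t, φ (τ2 t) ∈ l.range := fun t => by
    have : pm2 (τ2 t) ∈ l.S := lm.2 (by clear * -; revert t; decide +kernel)
    exact ag _ this ▸ l.f_mem this
  have NR : N ≤ l.range := fun k hk => by
    obtain ⟨q, hq, rfl⟩ := n.mem_range.1 (nR.2 hk)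
    have e := lf q hq 0
    rw [show pm2 (τ2 0) = 1 by decide +kernel, show φ (τ2 0) = 1 from h.one, mul_one, mul_one] at e
    exact e ▸ l.f_mem (lm.2 (Or.inl (mul_inv_eq_iff_eq_mul.2 (K0_e3 (nS ▸ hq)))))
  have key : ∀ g, g * φ (rep 1, 0) = φ (rep 1, 0) * g → g ∈ l.range := fun g hg => by
    obtain ⟨i, hi⟩ := hK.dec g hg
    refine (mul_mem_cancel_right (pow_mem (mτ (1, 0, 0)) i)).1 ?_
    by_contra e
    exact e ((mul_mem_cancel_right (mτ (0, 0, 1))).1 (NR (hF _ hi _ (hK.cop _ 2 ((fx _ _).2 (by decide))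
      ((h.pw1 (h.x3 _)).2 (by decide)) (by norm_num)) (fun f => e (NR f))
      fun f => absurd (nN _ (by decide) f) (by decide))))
  rcases hg with hg | hg
  · exact key g (mul_inv_eq_iff_eq_mul.1 hg)
  · have e : φ (τ2 (0, 1, 0)) * φ (rep 1, 0) * (φ (τ2 (0, 1, 0)))⁻¹ = (φ (rep 1, 0))⁻¹ := by
      rw [← h.neg, (h.act (h.x3 _)).cj]; rfl
    have := key ((φ (τ2 (0, 1, 0)))⁻¹ * g) (by
      calc _ = (φ (τ2 (0, 1, 0)))⁻¹ * (g * φ (rep 1, 0) * g⁻¹) * g := by group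
        _ = _ := by rw [hg, ← e]; group)
    exact (mul_mem_cancel_left (inv_mem (mτ _))).1 this

end H58.S9
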