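import Cfsg.Agent.Lib.Sym9.CaseB

/-! The case where `J` is a trivial intersection set, concluded. -/

set_option autoImplicit false
set_option synthInstance.maxSize 2048
set_option linter.unusedSectionVars false

namespace H58.S9

open Cfsg H53.Odd H58.N9 H58.SE Subgroup

variable {G : Type*} [Group G] [Finite G] {J : Subgroup G} {c : Fin 4} {φ : M2 → G}

theorem Sb.ufs (h : Sb c J φ) : UF (NJ J) (φ (0, ws)) ∨
    xd c wn.1 ∧ ∃ g, g * φ (0, ws) * g⁻¹ = φ (0, wn) := by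
  refine or_iff_not_imp_right.2 fun hn => uf_of_cent h.cσ fun g hg => ?_
  obtain ⟨k, hk, r, hr, hr', e⟩ := h.inv_cls hg (SE.conj_sq (h.sqW (xs c) (by decide)))
    (SE.conj_ne_one (h.ne1 (xs c) (by decide)))
  have e' : k⁻¹ * g * φ (0, ws) * (k⁻¹ * g)⁻¹ = φ (0, r) := by
    calc _ = k⁻¹ * (g * φ (0, ws) * g⁻¹) * k := by group
      _ = _ := by rw [← e]; group
  rcases (by decide +kernel : ∀ r ∈ [we, wv, wn, ws, wz], r = wn ∨ ∃ u, (u ≠ 0 ∧ kap u ≠ 3) ∧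
    ac r u = u) r hr with rfl | ⟨u, hu, f⟩
  · exact absurd ⟨hr', _, e'⟩ hn
  obtain ⟨l, hl, f⟩ := h.fuseW (h.uf (u := (0, 0, 1)) (by decide)) (h.uf hu)
    ⟨xs c, hr', by decide, f⟩ e'
  exact ⟨k * l, mul_mem hk hl, by rw [← e, ← f]; group⟩

theorem Sb.top1 (h : Sb c J φ) (hσ : UF (NJ J) (φ (0, ws))) {s : W2} (hs : xd c s.1 ∧ mw2 s s = 0 ∧
    s ≠ 0 ∧ mw2 ws s = mw2 s ws ∧
    ∀ m w, xd c m.1 → mw2 m s = mw2 w m → pww (mw2 w s) 3 = 0) : NJ J = ⊤ := by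
  obtain ⟨s1, s2, s3, s4, s5⟩ := hs
  have σ2 := h.sqW (xs c) (by decide)
  have c1 := h.cmW (xs c) s1 s4
  obtain ⟨P, hP⟩ := (four_pg σ2 (h.sqW s1 s2) c1).exists_le_sylow
  have m1 : φ (0, ws) ∈ (P : Subgroup G) := hP (Or.inr (Or.inl rfl))
  have m2 : φ (0, s) ∈ (P : Subgroup G) := hP (Or.inr (Or.inr (Or.inl rfl)))
  have hle := pgroup_le P.isPGroup' le_top m1 (h.mW (xs c)) (hσ.ufin _)
  refine h.zs P m2 (h.sqW s1 s2) (h.ne1 s1 s3) fun g hg => ?_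
  obtain ⟨k, hk, r, hr, hr', e⟩ := h.inv_cls (hle hg) (SE.conj_sq (h.sqW s1 s2))
    (SE.conj_ne_one (h.ne1 s1 s3))
  have e' : k⁻¹ * g * φ (0, s) * (k⁻¹ * g)⁻¹ = φ (0, r) := by
    calc _ = k⁻¹ * (g * φ (0, s) * g⁻¹) * k := by group
      _ = _ := by rw [← e]; group
  obtain ⟨l, hl, f⟩ := fuse_p (p := 2) (g := k⁻¹ * g) hσ ((pow_two _).trans σ2) c1 (h.mW (xs c)) hσ
    ((pow_two _).trans σ2) (e' ▸ h.cmW (xs c) hr' (by clear * - hr; revert r; decide +kernel))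
  obtain ⟨m, hm, a⟩ := h.ex (mul_mem hk hl)
  obtain ⟨w, -, b⟩ := h.ex (hle hg)
  have e2 : k * l * φ (0, s) = g * φ (0, s) * g⁻¹ * (k * l) := by rw [← e, ← e', ← f]; group
  have := h.cubeJ (h.cJ (s5 m w hm (h.jf.uniq (e2 ▸ a.mul (h.aW s1)) (b.mul a)) ▸
    (b.mul (h.aW s1)).pow 3))
  rw [← pow_mul] at this
  rw [eq_inv_of_mul_eq_one_left (p21 P.isPGroup' (mul_mem hg m2) (n := 2) this),
    inv_eq_of_mul_eq_one_left (h.sqW s1 s2)]

theorem Sb.top3 (h : Sb 3 J φ) (g : G) : g * φ (0, ws) * g⁻¹ ≠ φ (0, wn) := fun e => by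
  have key : ∀ w, pw2 (0, w) 3 = 0 ∧ mw2 w wn = mw2 wn w → g⁻¹ * φ (0, w) * g⁻¹⁻¹ ∈ J := fun w hw => by
    have c1 : g⁻¹ * φ (0, w) * g⁻¹⁻¹ * φ (0, ws) = φ (0, ws) * (g⁻¹ * φ (0, w) * g⁻¹⁻¹) :=
      SE.comm_of_conj (g := g) (by
        rw [e]; simpa [mul_assoc] using h.cmW (h.x3 _) (h.x3 _) hw.2)
    exact h.c3 (h.cσ _ c1) c1 ⟨1, SE.conj_cube ((h.pw1 (h.x3 _)).2 hw.1)⟩
  exact absurd (h.cmA (h.aW (h.x3 _)) (h.aW (h.x3 _)) (SE.comm_of_conj (h.commJ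
    (key (0, 1, 0) (by decide +kernel)) (key ((1, 1, 0), 1, 0) (by decide +kernel))))) (by decide)

theorem Sb.top2 (h : Sb 1 J φ) {g : G} (e : g * φ (0, ws) * g⁻¹ = φ (0, wn)) : NJ J = ⊤ := by
  have x1 : xd 1 wn.1 := by decide
  have x2 : xd 1 wz.1 := by decide
  have σ2 := h.sqW (xs 1) (by decide)
  have n2 := h.sqW x1 (by decide)
  have z2 := h.sqW x2 (by decide)
  have z1 := h.ne1 x2 (by decide)
  have c1 := h.cmW (xs 1) x1 (by decide)
  have ez : φ (0, ws) * φ (0, wn) = φ (0, wz) := (h.homW (xs 1) x1).symm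
  obtain ⟨P, hP⟩ := (four_pg σ2 n2 c1).exists_le_sylow
  have m1 : φ (0, ws) ∈ (P : Subgroup G) := hP (Or.inr (Or.inl rfl))
  have m2 : φ (0, wn) ∈ (P : Subgroup G) := hP (Or.inr (Or.inr (Or.inl rfl)))
  have m3 : φ (0, wz) ∈ (P : Subgroup G) := ez ▸ mul_mem m1 m2
  have hC : ∀ x ∈ (P : Subgroup G), x * φ (0, ws) = φ (0, ws) * x →
      x = 1 ∨ x = φ (0, ws) ∨ x = φ (0, wn) ∨ x = φ (0, ws) * φ (0, wn) := fun x hx f => by
    obtain ⟨p, hp, rfl⟩ := (h.mem x).1 (h.cσ x f)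
    have f1 := (h.pw1 hp).1 (p23 P.isPGroup' hx (n := 2) (h.pow36 (h.mH hp)))
    have f2 := p23 P.isPGroup' (mul_mem hx m2) (n := 2) (h.pow36 (mul_mem (h.mH hp) (h.mW x1)))
    rw [← h.hom _ _ hp x1, h.pw1 (xd_mw _ _ _ hp x1)] at f2
    rw [h.mul_iff hp (xs 1) (xs 1) hp] at f
    rw [ez, ← h.one]
    exact ((by decide +kernel : ∀ p : M2, xd 1 p.2.1 → mul2 p (0, ws) = mul2 (0, ws) p → pw2 p 4 = 0 →
      pw2 (mul2 p (0, wn)) 4 = 0 → p = (0, 0) ∨ p = (0, ws) ∨ p = (0, wn) ∨ p = (0, wz))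
      p hp f f1 f2).imp (congrArg φ) (Or.imp (congrArg φ) (Or.imp (congrArg φ) (congrArg φ)))
  have uj := h.uf (u := (1, 2, 0)) (by decide)
  have nz : ∀ k, k * φ (0, wz) * k⁻¹ ≠ φ (0, ws) :=
    h.nconj uj (h.uf (u := (0, 0, 1)) (by decide)) (by decide +kernel)
  have ab : ∀ k, ∀ x ∈ (P : Subgroup G), ∀ y ∈ (P : Subgroup G), x * (k * φ (0, ws) * k⁻¹) =
      k * φ (0, ws) * k⁻¹ * x → y * (k * φ (0, ws) * k⁻¹) = k * φ (0, ws) * k⁻¹ * y → x * y = y * x :=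
    fun k x hx y hy f f' => by
      have key : ∀ x, x * (k * φ (0, ws) * k⁻¹) = k * φ (0, ws) * k⁻¹ * x → ∃ m, xd 1 m.1 ∧
          mw2 m ws = mw2 ws m ∧ A φ (k⁻¹ * x * k⁻¹⁻¹) m := fun x f => by
        have f1 : k⁻¹ * x * k⁻¹⁻¹ * φ (0, ws) = φ (0, ws) * (k⁻¹ * x * k⁻¹⁻¹) :=
          SE.comm_of_conj (g := k) (by simpa [mul_assoc] using f)
        exact (h.ex (h.cσ _ f1)).imp fun m a => ⟨a.1, h.cmA a.2 (h.aW (xs 1)) f1, a.2⟩
      obtain ⟨m, a1, a2, a⟩ := key x f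
      obtain ⟨m', b1, b2, b⟩ := key y f'
      have := SE.conj_cube (g := k) (h.cubeJ (h.brJ a b (by
        clear * - a1 a2 b1 b2; revert m m'; decide +kernel)))
      have := p21 P.isPGroup' (mul_mem (mul_mem (mul_mem hx hy) (inv_mem hx)) (inv_mem hy)) (n := 1)
        (by simpa [mul_assoc] using this)
      rwa [mul_inv_eq_one, mul_inv_eq_iff_eq_mul] at this
  have hz : ∀ x ∈ (P : Subgroup G), x * φ (0, wz) = φ (0, wz) * x := fun x hx => by
    have : Nontrivial P := ⟨⟨_, m3⟩, 1, fun e => z1 (congrArg Subtype.val e)⟩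
    have := P.isPGroup'.center_nontrivial
    obtain ⟨⟨⟨y, hy⟩, hy'⟩, y1⟩ := exists_ne (1 : center P)
    have cy : ∀ x ∈ (P : Subgroup G), x * y = y * x := fun x hx =>
      congrArg Subtype.val (mem_center_iff.1 hy' ⟨x, hx⟩)
    rcases hC y hy (cy _ m1).symm with rfl | rfl | rfl | rfl
    · exact absurd rfl y1
    · exact ab 1 x hx _ m3 (by simpa using cy x hx) (by simpa using cy _ m3)
    · exact ab g x hx _ m3 (e ▸ cy x hx) (e ▸ cy _ m3)
    · exact ez ▸ cy x hx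
  refine h.zs P m3 z2 z1 fun k hk => ?_
  have k2 := SE.conj_sq (g := k) z2
  rcases dih_or_qd P.isPGroup' m1 m2 σ2 n2 c1 (h.ne1 (xs 1) (by decide)) (h.ne1 x1 (by decide))
    (h.neW (xs 1) x1 (by decide)) hC with ⟨n, hn, f⟩ | f
  · obtain ⟨N, _, o, i, hi⟩ := Cfsg.Agent.S0514.result P n hn f _ (H9.orderOf_eq_two_of_mul_self z1 z2)
    have mC : ∀ {g}, g ∈ centralizer {φ (0, wz)} ↔ g * φ (0, wz) = φ (0, wz) * g :=
      mem_centralizer_singleton_iff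
    have m4 : ∀ x : centralizer {φ (0, wz)}, (x : G) ∈ J → x ∈ N := fun x hx =>
      H76.mem_of_pow_mem_of_coprime (b := 3) (Nat.Coprime.pow_left i (by norm_num)) (hi ▸ N.pow_index_mem x)
        (by rw [show x ^ 3 = 1 from Subtype.ext (h.cubeJ hx)]; exact one_mem _)
    let j : centralizer {φ (0, wz)} := ⟨_, mC.2 ((h.fix (h.aW x2) (u := (1, 2, 0))).2 (by decide)).symm⟩
    let q : centralizer {φ (0, wz)} := ⟨_, mC.2 (hz _ hk)⟩
    let s : centralizer {φ (0, wz)} := ⟨_, mC.2 (hz _ m1)⟩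
    obtain ⟨_, ⟨l, hl, rfl⟩, f⟩ := exists_conj_mem (p := 3) (K := N.map (Subgroup.subtype _)) (H := NJ J)
      (x := j) (x' := q * j * (q : G)⁻¹) ⟨j, m4 j (h.mJ _), rfl⟩ (le_normalizer (h.mJ _)) (h.cube _)
      (uj.ufin _) ⟨q * j * q⁻¹, Normal.conj_mem ‹_› _ (m4 j (h.mJ _)) q, rfl⟩ (SE.conj_cube (h.cube _))
    obtain ⟨m, hm, a⟩ := h.ex (uj ((l * q : centralizer {φ (0, wz)}) : G) (by simpa [mul_assoc] using f))
    have f1 := m4 (l * q * s * (l * q)⁻¹ * s⁻¹) (h.brJ a (h.aW (xs 1)) (by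
      have := h.cmA a (h.aW x2) (mC.1 (l * q).2)
      clear * - hm this; revert m; decide +kernel))
    have f2 : q * s * q⁻¹ * s⁻¹ ∈ N := by
      rw [← QuotientGroup.eq_one_iff] at f1 ⊢
      simpa [(QuotientGroup.eq_one_iff l).2 hl] using f1
    obtain ⟨a, ha⟩ := P.isPGroup' ⟨_, mul_mem (mul_mem (mul_mem hk m1) (inv_mem hk)) (inv_mem m1)⟩
    have f3 : q * s * q⁻¹ * s⁻¹ = 1 := orderOf_eq_one_iff.1 (Nat.Coprime.eq_one_of_dvd
      (Nat.Coprime.pow_right a (Nat.coprime_two_right.2 (o.of_dvd_nat (N.orderOf_dvd_natCard f2))))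
      (orderOf_dvd_of_pow_eq_one (Subtype.ext (Subtype.ext_iff.1 ha :))))
    rw [mul_inv_eq_one, mul_inv_eq_iff_eq_mul] at f3
    rcases hC _ hk (congrArg Subtype.val f3) with f | f | f | f
    · exact absurd f (SE.conj_ne_one z1)
    · exact absurd f (nz k)
    · exact absurd (by rw [← e] at f; rw [← (MulAut.conj g).injective.eq_iff]; simpa [mul_assoc] using f)
        (nz (g⁻¹ * k))
    · exact f.trans ez
  · obtain ⟨i, x, y, q⟩ := H41.exists_qd f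
    have e1 := (q.center_iff m3 hz).resolve_left z1
    rcases q.invol hk k2 with f | f | ⟨j, f⟩
    · exact absurd f (SE.conj_ne_one z1)
    · exact f.trans e1.symm
    rcases q.invol m1 σ2 with f' | f' | ⟨j', f'⟩
    · exact absurd f' (h.ne1 (xs 1) (by decide))
    · exact absurd (f'.trans e1.symm) (h.neW (xs 1) x2 (by decide))
    · obtain ⟨l, hl⟩ := isConj_iff.1 ((f ▸ q.isConj_even j).trans (f' ▸ q.isConj_even j').symm)
      exact absurd (by rw [← hl]; group) (nz (l * k))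

theorem Sb.top4 (h : Sb 2 J φ) (hσ : UF (NJ J) (φ (0, ws))) : NJ J = ⊤ := by
  by_contra hn
  let v' : W2 := ((0, 1, 1), 0, 0)
  have x1 : xd 2 wv.1 := by decide
  have x2 : xd 2 v'.1 := by decide
  have σ2 := h.sqW (xs 2) (by decide)
  have v2 := h.sqW x1 (by decide)
  have w2 := h.sqW x2 (by decide)
  have c1 := h.cmW x2 x1 (by decide)
  obtain ⟨N, hN, N0, -, hmin⟩ := H1.exists_minimal_normal_le (⊤ : Subgroup G) fun e =>
    h.ne1 x1 (by decide) (mem_bot.1 (e ▸ mem_top _))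
  have : Group.IsPerfect N := isPerfect_iff.2 ((hmin _ inferInstance (commutator_le_left _ _)).resolve_left
    fun e => hn (h.solv N N0 (Group.isSolvable_of_comm fun a b => Subtype.ext
      (commutator_eq_bot_iff_le_centralizer.1 e b.2 a a.2))))
  obtain ⟨t, ht, t2⟩ := H1.exists_mem_orderOf_eq_prime (H := N) Nat.prime_two (even_iff_two_dvd.1
    (Nat.not_odd_iff_even.1 fun o => (h.odd N o).elim N0 hn))
  have t2' : t ^ 2 = 1 := t2 ▸ pow_orderOf_eq_one t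
  obtain ⟨k, -, hk⟩ := exists_conj_mem (p := 2) (K := ⊤) trivial (h.mW (xs 2)) ((pow_two _).trans σ2)
    (hσ.ufin _) trivial t2'
  obtain ⟨l, -, r, hr, hr', e⟩ := h.inv_cls hk (SE.conj_sq ((pow_two t).symm.trans t2'))
    (SE.conj_ne_one (by rintro rfl; simp at t2))
  have mr : φ (0, r) ∈ N := by
    have := hN.mem_comm (e ▸ hN.conj_mem t ht k)
    rwa [inv_mul_cancel_left] at this
  have cj : ∀ m r r', xd 2 m.1 ∧ xd 2 r.1 ∧ xd 2 r'.1 ∧ mw2 m r = mw2 r' m → φ (0, r) ∈ N →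
      φ (0, r') ∈ N := fun m r r' ⟨a, b, d, e⟩ f =>
    (h.conj_iff (p := (0, m)) (q := (0, r)) (r := (0, r')) a b d).2 (by rw [mul_W, mul_W, e]) ▸
      hN.conj_mem _ f _
  have mv : φ (0, wv) ∈ N := by
    rcases (by decide : ∀ r ∈ [we, wv, wn, ws, wz], xd 2 r.1 → r = wv ∨ r = ws) r hr hr' with rfl | rfl
    · exact mr
    · have := cj v' ws (mw2 wv ws) (by decide) mr
      rwa [h.homW x1 (xs 2), mul_mem_cancel_right mr] at this
  have mv' := cj (0, 1, 0) wv v' (by decide) mv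
  have hJ : J ≤ N := h.span fun j => by
    obtain ⟨m, a, b⟩ := (by decide +kernel : ∀ j : Fin 3, ∃ m, (m = wv ∨ m = v') ∧
      ro j (1, 0, 0) = ac m (ro j (1, 0, 0)) + -ro j (1, 0, 0)) j
    have : xd 2 m.1 ∧ φ (0, m) ∈ N := by rcases a with rfl | rfl; exacts [⟨x1, mv⟩, ⟨x2, mv'⟩]
    rw [b, h.add, h.neg, ← (h.aW this.1).cj]
    simpa [mul_assoc] using mul_mem this.2 (hN.conj_mem _ (inv_mem this.2) (φ (ro j (1, 0, 0), 0)))
  obtain ⟨P, hP⟩ := ((four_pg w2 v2 c1).to_sup_of_normal_left'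
    (H9.isPGroup_zpowers_of_pow (a := 1) ((pow_two _).trans σ2)) (zpowers_le.2
      (SE.mem_normalizer_of_le (by
        have e1 : φ (0, ws) * φ (0, wv) * (φ (0, ws))⁻¹ = φ (0, wv) :=
          mul_inv_eq_iff_eq_mul.2 (h.cmW (xs 2) x1 (by decide))
        have e2 : φ (0, ws) * φ (0, v') * (φ (0, ws))⁻¹ = φ (0, v') * φ (0, wv) := by
          rw [← h.homW x2 x1, h.conj_iff (xs 2) x2 (by decide)]; decide
        rintro _ (rfl | rfl | rfl | rfl)
        · simp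
        · exact Or.inr (Or.inr (Or.inr e2))
        · exact Or.inr (Or.inr (Or.inl e1))
        · exact Or.inr (Or.inl (by rw [← conj_mul, e1, e2, mul_assoc, v2, mul_one])))))).exists_le_sylow
  have m1 : φ (0, ws) ∈ (P : Subgroup G) := hP (mem_sup_right (mem_zpowers _))
  have m2 : φ (0, v') ∈ (P : Subgroup G) := hP (mem_sup_left (Or.inr (Or.inl rfl)))
  have m3 : φ (0, wv) ∈ (P : Subgroup G) := hP (mem_sup_left (Or.inr (Or.inr (Or.inl rfl))))
  have hle := pgroup_le P.isPGroup' le_top m1 (h.mW (xs 2)) (hσ.ufin _)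
  have p4 : ∀ p, xd 2 p.2.1 → φ p ∈ (P : Subgroup G) → pw2 p 4 = 0 := fun p hp f =>
    (h.pw1 hp).1 (p23 P.isPGroup' f (n := 2) (h.pow36 (h.mH hp)))
  have hS : IsPGroup 2 ((P : Subgroup G) ⊓ N : Subgroup G) := P.isPGroup'.to_inf_left
  rcases dih_or_qd hS ⟨m2, mv'⟩ ⟨m3, mv⟩ w2 v2 c1 (h.ne1 x2 (by decide)) (h.ne1 x1 (by decide))
    (h.neW x2 x1 (by decide)) (fun x hx f => by
      obtain ⟨p, hp, rfl⟩ := (h.mem x).1 (hle hx.1)
      have hp' := xd_mw _ _ _ hp x2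
      have f2 := p4 (mul2 p (0, ws)) (xd_mw _ _ _ hp (xs 2))
        ((h.hom _ (0, ws) hp (xs 2)).symm ▸ mul_mem hx.1 m1)
      have f3 := p4 (mul2 (mul2 p (0, v')) (0, ws)) (xd_mw _ _ _ hp' (xs 2)) (by
        rw [h.hom _ _ hp' (xs 2), h.hom _ _ hp x2]; exact mul_mem (mul_mem hx.1 m2) m1)
      rw [h.mul_iff hp x2 x2 hp] at f
      rw [← h.homW x2 x1, ← h.one]
      exact ((by decide +kernel : ∀ p : M2, xd 2 p.2.1 → mul2 p (0, v') = mul2 (0, v') p →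
        pw2 p 4 = 0 → pw2 (mul2 p (0, ws)) 4 = 0 → pw2 (mul2 (mul2 p (0, v')) (0, ws)) 4 = 0 →
        p = (0, 0) ∨ p = (0, v') ∨ p = (0, wv) ∨ p = (0, mw2 v' wv)) p hp f (p4 p hp hx.1) f2 f3).imp
        (congrArg φ) (Or.imp (congrArg φ) (Or.imp (congrArg φ) (congrArg φ)))) with ⟨n, hn', ⟨f⟩⟩ | f
  · have o : oddCore N = ⊥ := (map_eq_bot_iff_of_injective _ N.subtype_injective).1
      ((h.odd _ (by rw [card_map_of_injective N.subtype_injective]; exact H1.odd_card_oddCore)).resolve_right hn)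
    let e : N ≃* N ⧸ oddCore N := ((QuotientGroup.quotientMulEquivOfEq o).trans
      QuotientGroup.quotientBot).symm
    rcases Cfsg.Agent.S0483.result ((hS.comap_subtype (K := N)).toSylow (by
      rw [← subgroupOf, inf_subgroupOf_right]; exact H4.not_dvd_relIndex_sylow_of_normal P N)) n hn'
      ⟨(subgroupOfEquivOfLe inf_le_right).trans f⟩ with ⟨F, _, _, o, -, ⟨g⟩⟩ | ⟨⟨g⟩⟩
    · let ψ := e.trans g
      have cm : ∀ a b : N, (a : G) * b = b * a ↔ ψ a * ψ b = ψ b * ψ a := fun a b => by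
        rw [← map_mul, ← map_mul, ψ.injective.eq_iff, Subtype.ext_iff]; rfl
      have := (cm ⟨_, mv⟩ ⟨_, hJ (h.mJ (1, 0, 0))⟩).2 (psl_cent (g := ψ ⟨_, hJ (h.mJ (0, 0, 1))⟩)
        (fun e => by
          have := (CharP.charP_iff_prime_eq_zero Nat.prime_two).2 e
          exact Nat.not_even_iff_odd.2 o (Nat.even_iff.2
            (FiniteField.even_card_iff_char_two.1 (ringChar.eq F 2))))
        (by rw [← map_pow, map_eq_one_iff _ ψ.injective]; exact Subtype.ext (h.cube _))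
        (fun e => h.ne (by decide) (congrArg Subtype.val ((map_eq_one_iff _ ψ.injective).1 e)))
        ((cm _ _).1 ((h.fix (h.aW x1)).2 (by decide)).symm) ((cm _ _).1 (h.JJ _ _)))
      exact absurd ((h.fix (h.aW x1)).1 this) (by decide)
    · have := card_dvd_of_le hJ
      rw [h.jf.card, Nat.card_congr (e.trans g).toEquiv, nat_card_alternatingGroup] at this
      simp [Nat.factorial] at this
  · obtain ⟨i, x, y, q⟩ := H41.exists_qd f
    have := orderOf_dvd_of_pow_eq_one (h.pow36 (hle q.x_mem.1))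
    rw [q.ord] at this
    exact absurd (Dvd.dvd.trans (Dvd.intro _ rfl) this) (by norm_num)

theorem Sb.top (h : Sb c J φ) : NJ J = ⊤ := by
  rcases (show c = 0 ∨ c = 1 ∨ c = 2 ∨ c = 3 by clear * -; revert c; decide) with rfl | rfl | rfl | rfl <;>
    rcases h.ufs with e | ⟨e, g, f⟩
  · exact h.top1 e (s := ws) (by decide +kernel)
  · exact absurd e (by decide)
  · exact h.top1 e (s := wn) (by decide +kernel)
  · exact h.top2 f
  · exact h.top4 e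
  · exact absurd e (by decide)
  · exact h.top1 e (s := wn) (by decide +kernel)
  · exact absurd f (h.top3 g)

end H58.S9
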