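import Cfsg.Agent.Lib.Sym9.Rel
import Cfsg.Agent.Lib.Sym9.TopB
import Cfsg.Agent.Lib.A9.Fin9

/-! A strongly 3-embedded subgroup `S₉` is the whole group. -/

set_option autoImplicit false
set_option synthInstance.maxSize 2048

namespace H58.S9

open Equiv Equiv.Perm H58.Cd H58.SE H53.Odd H58.N9 Subgroup

def r5 (a : Fin 5) : P9 × P9 := if a = 0 then (1, e3) else if a = 1 then (T0, e3) else
  if a = 2 then (a0, e3) else if a = 3 then (σ0, e3) else (b9, y9)

theorem inv3 {p : P9} (hp : p * p = 1) : ∃ x : P9, x ^ 3 = 1 ∧ x ≠ 1 ∧ x * p = p * x := by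
  obtain ⟨a, ha⟩ : ∃ a : Fin 5, p.support.card = 2 * a := by
    obtain ⟨a, ha⟩ := two_dvd_card_support ((pow_two p).trans hp)
    have : p.support.card ≤ 9 := by simpa using p.support.card_le_univ
    exact ⟨⟨a, by omega⟩, ha⟩
  obtain ⟨a1, a2, a3, a4, a5⟩ := (by decide +kernel : ∀ a, (r5 a).1 * (r5 a).1 = 1 ∧
    (r5 a).1.support.card = 2 * a ∧ (r5 a).2 ^ 3 = 1 ∧ (r5 a).2 ≠ 1 ∧
      (r5 a).2 * (r5 a).1 = (r5 a).1 * (r5 a).2) a
  obtain ⟨k, rfl⟩ := isConj_iff.1 (S8.isConj_of_invol a1 hp (a2.trans ha.symm))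
  exact ⟨_, conj_cube a3, conj_ne_one a4, SE.conj_comm a5⟩

theorem com3 (q : Fin 3 → P9) (hq : ∀ i, (q i).support.card = 2) :
    ∃ x : P9, x ^ 3 = 1 ∧ x ≠ 1 ∧ ∀ i, x * q i = q i * x := by
  have h1 := Finset.card_biUnion_le (s := Finset.univ) (t := fun i => (q i).support)
  have h2 := Finset.card_add_card_compl (Finset.univ.biUnion fun i => (q i).support)
  simp only [hq, Finset.sum_const, Finset.card_univ, Fintype.card_fin, smul_eq_mul] at h1 h2
  obtain ⟨a, ha, b, hb, c, hc, ab, ac, bc⟩ := Finset.two_lt_card.1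
    (show 2 < (Finset.univ.biUnion fun i => (q i).support)ᶜ.card by omega)
  simp only [Finset.mem_compl, Finset.mem_biUnion, Finset.mem_univ, true_and, not_exists,
    notMem_support] at ha hb hc
  have t := isThreeCycle_swap_mul_swap_same ab ac bc
  refine ⟨_, t.orderOf ▸ pow_orderOf_eq_one _, t.ne_one, fun i => Perm.Disjoint.commute fun y => ?_⟩
  by_contra! e
  have : ∀ z, (∀ i, q i z = z) → y ≠ z := fun z hz f => e.2 (f ▸ hz i)
  exact e.1 (by rw [Perm.mul_apply, swap_apply_of_ne_of_ne (this a ha) (this c hc),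
    swap_apply_of_ne_of_ne (this a ha) (this b hb)])

variable {G : Type*} [Group G] [Finite G] {J : Subgroup G} {φ : M2 → G} {k : PH P9 G}

theorem St.se3 (h : St 3 J φ) (hk : ∀ p, p ∈ k.S) (hH : NJ J ≤ k.range)
    (hx : ∀ g, g * φ (rep 1, 0) = φ (rep 1, 0) * g → g ∈ k.range) : SE3 k.range := by
  choose q hq hq' using fun i => k.mem_range.1 (hH (le_normalizer (h.mJ (rep i))))
  have key : ∀ x ∈ k.range, x ^ 3 = 1 → x ≠ 1 → ∃ i ∈ [1, 2, 3], ∃ l ∈ k.range,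
      l * φ (rep i, 0) * l⁻¹ = x := fun x hx h3 h1 => by
    obtain ⟨p, hp, rfl⟩ := k.mem_range.1 hx
    have q3 : ∀ i, q i ^ 3 = 1 := fun i => (k.pow_eq_one_iff (hq i) 3).1 (hq' i ▸ h.cube _)
    have q1 : ∀ i, rep i ≠ 0 → q i ≠ 1 := fun i hi => (k.eq_one_iff (hq i)).not.1 (hq' i ▸ h.ne hi)
    have cj : ∀ i r, r ^ 3 = 1 → (q i).support.card = r.support.card →
        ∃ l ∈ k.range, l * φ (rep i, 0) * l⁻¹ = k.f r := fun i r r3 e => by
      obtain ⟨l, b⟩ := isConj_iff.1 (isConj_of_cube (q3 i) r3 e)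
      exact ⟨_, k.f_mem (hk l), hq' i ▸ (k.conj_iff (hk l) (hq i) (hk r)).2 b⟩
    have ne : ∀ i j, kap (rep i) ≠ kap (rep j) →
        (q i).support.card ≠ (q j).support.card := fun i j hij e => by
      obtain ⟨l, -, e⟩ := cj i _ (q3 j) e
      exact hij (h.kap_eq (e.trans (hq' j)))
    have p3 := (k.pow_eq_one_iff hp 3).1 h3
    obtain ⟨a, a1, a2, a3⟩ := cube_supp p3 ((k.eq_one_iff hp).not.1 h1)
    obtain ⟨b, b1, b2, b3⟩ := cube_supp (q3 1) (q1 1 (by decide))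
    obtain ⟨c, c1, c2, c3⟩ := cube_supp (q3 2) (q1 2 (by decide))
    obtain ⟨d, d1, d2, d3⟩ := cube_supp (q3 3) (q1 3 (by decide))
    have n1 := ne 1 2 (by decide)
    have n2 := ne 1 3 (by decide)
    have n3 := ne 2 3 (by decide)
    rcases (show (q 1).support.card = p.support.card ∨ (q 2).support.card = p.support.card ∨
      (q 3).support.card = p.support.card by omega) with e | e | e
    exacts [⟨1, by simp, cj 1 p p3 e⟩, ⟨2, by simp, cj 2 p p3 e⟩, ⟨3, by simp, cj 3 p p3 e⟩]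
  intro x hx' h3 h1
  obtain ⟨i, -, l, hl, rfl⟩ := key x hx' h3 h1
  refine UF.conj (fun g hg => ?_) hl
  obtain ⟨j, hj, n, hn, e⟩ := key _ hg (conj_cube (h.cube _)) (by simpa using h1)
  obtain ⟨c, c1, c2⟩ := h.fus (g := n⁻¹ * g) (u := rep i) (v := rep j) (by
    calc _ = n⁻¹ * (g * φ (rep i, 0) * g⁻¹) * n := by group
      _ = _ := by rw [← e]; group)
  have : c ∈ k.range := by
    simp only [List.mem_cons, List.not_mem_nil, or_false] at hj
    rcases hj with rfl | rfl | rfl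
    exacts [hx c c1, hH (h.c2 (by decide) c1), hH (h.c2 (by decide) c1)]
  simpa using mul_mem hn (mul_mem (inv_mem this) (hH c2))

theorem top9 (hk : ∀ p, p ∈ k.S) (se : SE3 k.range) : k.range = ⊤ := by
  classical
  have o3 : ∀ {x : P9}, x ^ 3 = 1 → k.f x ^ 3 = 1 := (k.pow_eq_one_iff (hk _) 3).2
  have o1 : ∀ {x : P9}, x ≠ 1 → k.f x ≠ 1 := (k.eq_one_iff (hk _)).not.2
  have cm : ∀ {x y : P9}, x * y = y * x → k.f x * k.f y = k.f y * k.f x := (k.comm_iff (hk _) (hk _)).2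
  have t2 : ∀ i, tt i * tt i = 1 ∧ (tt i).support.card = 2 := by decide +kernel
  have sup : ∀ i g p, g * k.f (tt i) * g⁻¹ = k.f p → p.support.card = 2 := fun i g p e => by
    obtain ⟨x, x1, x2, x3⟩ := inv3 (t2 i).1
    obtain ⟨y, y1, y2, y3⟩ := inv3 ((k.mul_eq_one_iff (hk p) (hk p)).1
      (e ▸ conj_sq ((k.mul_eq_one_iff (hk _) (hk _)).2 (t2 i).1)))
    obtain ⟨_, ⟨l, rfl⟩, f⟩ := se.fuse' (g := g) (k.f_mem (hk x)) (o3 x1) (o1 x2) (cm x3)
      (k.f_mem (hk y)) (o3 y1) (o1 y2) (e ▸ cm y3)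
    rw [← (k.conj_iff l.2 (hk _) (hk p)).1 (f.trans e), card_support_conj, (t2 i).2]
  have x3 : e3 ^ 3 = 1 ∧ e3 ≠ 1 := by decide +kernel
  have nrm : ∀ s, (∀ i : Fin 3, s * k.f (tt i.castSucc) * s⁻¹ ∈ k.range) → s ∈ k.range := fun s hs => by
    choose q _ hq using fun i => k.mem_range.1 (hs i)
    obtain ⟨x, x1, x2, x4⟩ := com3 q fun i => sup _ s _ (hq i).symm
    refine se (s⁻¹ * k.f x * s⁻¹⁻¹) (cenE (fun _ => hk _) (fun g e => se _ (k.f_mem (hk e3)) (o3 x3.1)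
      (o1 x3.2) g (e.elim (·.symm ▸ k.f_mem (hk _)) (·.symm ▸ inv_mem (k.f_mem (hk _))))) (fun X a b =>
        se.le_of_inv2 (k.f_mem (hk _)) (k.f_mem (hk _)) (o3 x3.1) (o3 (by decide +kernel))
          (cm (by decide +kernel)) (o1 x3.2) ?_ b a) fun i => SE.comm_of_conj (g := s) ?_)
      (conj_cube (o3 x1)) (conj_ne_one (o1 x2)) s (by simpa [mul_assoc] using k.f_mem (hk x))
    · rw [mem_zpowers_three (o3 x3.1), ← k.inv (hk _), k.eq_one_iff (hk _), k.eq_iff (hk _) (hk _),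
        k.eq_iff (hk _) (hk _)]
      decide +kernel
    · rw [← hq]; simpa [mul_assoc] using cm (x4 i)
  let ψ : P9 →* G := MonoidHom.mk' k.f fun p q => k.mul (hk p) (hk q)
  have hA : AH vE := by unfold AH; decide +kernel
  have hE : IsPGroup 2 hA.hom.range := by
    rintro ⟨_, u, rfl⟩
    exact ⟨1, Subtype.ext (by
      rw [Subgroup.coe_pow, ← map_pow, show u ^ 2 ^ 1 = 1 by revert u; decide, map_one]; rfl)⟩
  obtain ⟨P, hP⟩ := (hE.map ψ).exists_le_sylow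
  have mP : ∀ i : Fin 3, k.f (tt i.castSucc) ∈ (P : Subgroup G) := fun i => by
    obtain ⟨d, e⟩ := (by decide +kernel : ∀ i : Fin 3, ∃ d, vE d = tt i.castSucc) i
    exact hP ⟨_, ⟨Multiplicative.ofAdd d, e⟩, rfl⟩
  have hle : (P : Subgroup G) ≤ k.range := by
    by_contra hn
    obtain ⟨s, hs, hsn, hs'⟩ := H2.exists_mem_normalizer_not_mem P.isPGroup'.isNilpotent
      (lt_of_le_of_ne inf_le_left fun e : _ ⊓ k.range = _ => hn (e ▸ inf_le_right))
    exact hs' ⟨hs, nrm s fun i => ((mem_normalizer_iff.1 hsn _).1 ⟨mP i, k.f_mem (hk _)⟩).2⟩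
  have od : ∀ p : P9, ¬ sign p = 1 → sign (p * tt 0) = 1 := fun p hp => by
    rw [map_mul, (Int.units_eq_one_or _).resolve_left hp, show sign (tt 0) = -1 by simp [tt]]; rfl
  have nA : ∀ g, g * k.f (tt 0) * g⁻¹ ∉ (alternatingGroup (Fin 9)).map ψ := fun g ⟨p, hp, e⟩ => by
    have := (card_support_eq_two.1 (sup 0 g p e.symm)).sign_eq
    rw [mem_alternatingGroup.1 hp] at this
    exact absurd this (by decide)
  have nA1 : k.f (tt 0) ∉ (alternatingGroup (Fin 9)).map ψ := by simpa using nA 1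
  rcases Cfsg.Agent.S0111.result P (P ⊓ (alternatingGroup (Fin 9)).map ψ) inf_le_left (by
      rw [relIndex_eq_two_iff_exists_notMem_and]
      refine ⟨_, mP 0, fun e => nA1 e.2, fun b hb => ?_⟩
      obtain ⟨q, -, rfl⟩ := k.mem_range.1 (hle hb)
      by_cases e : sign q = 1
      · exact Or.inr ⟨hb, q, e, rfl⟩
      · exact Or.inl ⟨mul_mem hb (mP 0), _, od q e, map_mul ψ _ _⟩) _
    (H9.orderOf_eq_two_of_mul_self (o1 (by decide +kernel))
      ((k.mul_eq_one_iff (hk _) (hk _)).2 (t2 0).1)) (mP 0) (fun e => nA1 e.2)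
    with ⟨L, -, hL, e⟩ | ⟨g, e⟩
  swap
  · exact absurd e.2 (nA g)
  have hAL : ∀ p ∈ alternatingGroup (Fin 9), k.f p ∈ L := fun p hp =>
    (show alternatingGroup (Fin 9) ≤ L.comap ψ from closure_three_cycles_eq_alternating (α := Fin 9) ▸
      (closure_le _).2 fun x hx => mem_of_index_two hL (o3 (IsThreeCycle.orderOf hx ▸
        pow_orderOf_eq_one x))) hp
  let m : PH P9 L := ⟨alternatingGroup (Fin 9), fun p => if h : k.f p ∈ L then ⟨_, h⟩ else 1,
    fun {p q} hp hq => Subtype.ext (by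
      simp only [dif_pos (hAL _ hp), dif_pos (hAL _ hq), dif_pos (hAL _ (mul_mem hp hq))]
      exact k.mul (hk p) (hk q)), fun {p q} hp hq e => k.inj (hk p) (hk q) (by
        simpa only [dif_pos (hAL _ hp), dif_pos (hAL _ hq), Subtype.mk.injEq] using e)⟩
  have mR : ∀ x : L, x ∈ m.range ↔ (x : G) ∈ k.range := fun x => by
    rw [m.mem_range, k.mem_range]
    refine ⟨fun ⟨p, hp, e⟩ => ⟨p, hk p, by rw [← e]; simp only [m, dif_pos (hAL _ hp)]⟩,
      fun ⟨p, _, f⟩ => ?_⟩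
    have hp : sign p = 1 := by
      by_contra hp
      have := hAL _ (od p hp)
      rw [k.mul (hk _) (hk _), f, mul_mem_cancel_left x.2] at this
      exact e this
    exact ⟨p, hp, Subtype.ext (by simp only [m, dif_pos (hAL _ hp)]; exact f)⟩
  have := Fn.range_eq_top (m := m) ⟨mem_alternatingGroup, fun x hx x3 x1 g hg => (mR g).2
    (se x ((mR x).1 hx) (congrArg Subtype.val x3) (fun e => x1 (Subtype.ext e)) g ((mR _).1 hg))⟩
  have hL' : ∀ x ∈ L, x ∈ k.range := fun x hx => (mR ⟨x, hx⟩).1 (this ▸ mem_top _)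
  refine eq_top_iff.2 fun g _ => ?_
  by_cases hg : g ∈ L
  · exact hL' g hg
  · exact (mul_mem_cancel_right (k.f_mem (hk _))).1
      (hL' _ ((mul_mem_iff_of_index_two hL).2 (iff_of_false hg e)))

theorem St.main {c : Fin 4} (h : St c J φ) : NJ J = ⊤ ∨ Nonempty (G ≃* P9) := by
  by_cases e : c = 3 → ∀ g, g * φ (rep 1, 0) = φ (rep 1, 0) * g → g ∈ NJ J
  · exact Or.inl (Sb.top ⟨h, fun u hu g => h.cen hu fun a _ => e a⟩)
  obtain ⟨rfl, e'⟩ := Classical.not_imp.1 e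
  obtain ⟨K, hK, ⟨θ⟩⟩ := h.cx3.resolve_left e'
  obtain ⟨m, l⟩ := h.exists_lc hK θ
  obtain ⟨k, hk, h1, h2⟩ := exists_S9 h l
  have hk' : ∀ p, p ∈ k.S := fun p => hk ▸ mem_top p
  exact Or.inr ⟨(k.equivOfTop (top9 hk' (h.se3 hk' h1 fun g hg => h2 (l.rng g (Or.inl
    (l.fx ▸ mul_inv_eq_iff_eq_mul.2 hg)))))).trans ((MulEquiv.subgroupCongr hk).trans topEquiv)⟩

end H58.S9
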