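import Cfsg.Agent.Lib.Sym9.Tab
import Cfsg.Agent.Lib.A9.P9
import Cfsg.Agent.S0051

/-! The action of the normaliser of `J` on `J`. -/

set_option autoImplicit false
set_option synthInstance.maxSize 2048
set_option maxRecDepth 100000

namespace H58.S9

open Cfsg H53.Odd H58.N9 H58.SE Subgroup

variable {G : Type*} [Group G] {J : Subgroup G} {f : V27 → G} {p r : G}

/-- `g` acts as `w` -/
def Ac (f : V27 → G) (g : G) (w : W2) : Prop := ∀ u, g * f u * g⁻¹ = f (ac w u)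

theorem Ac.mul {g g' : G} {w w' : W2} (a : Ac f g w) (b : Ac f g' w') : Ac f (g * g') (mw2 w w') :=
  fun u => by rw [ac_mw, ← a, ← b]; group

theorem ac_one : Ac f 1 0 := fun u => by rw [ac_zero]; group

theorem Ac.pow {g : G} {w : W2} (a : Ac f g w) : ∀ n, Ac f (g ^ n) (pww w n)
  | 0 => by rw [pow_zero]; exact ac_one
  | n + 1 => by rw [pow_succ]; exact (a.pow n).mul a

/-- coordinates for `J` -/
structure Jf (J : Subgroup G) (f : V27 → G) : Prop where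
  ah : AH f
  inj : Function.Injective f
  mem : ∀ g, g ∈ J ↔ ∃ u, f u = g

namespace Jf

variable (h : Jf J f)
include h

theorem uniq {g : G} {w w' : W2} (a : Ac f g w) (b : Ac f g w') : w = w' :=
  ac_inj _ _ fun u => h.inj ((a u).symm.trans (b u))

theorem comm (u v : V27) : f u * f v = f v * f u := by rw [← h.ah, ← h.ah, add_comm]

theorem acJ (u : V27) : Ac f (f u) 0 := fun v => by rw [h.comm, ac_zero, mul_inv_cancel_right]

theorem cube (u : V27) : f u ^ 3 = 1 := by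
  rw [← h.ah.nsmul, show 3 • u = 0 by revert u; decide, h.ah.zero]

theorem card : Nat.card J = 27 := by
  rw [← Nat.card_congr (Equiv.ofBijective (fun u : V27 => (⟨f u, (h.mem _).2 ⟨u, rfl⟩⟩ : J))
    ⟨fun u v e => h.inj (congrArg Subtype.val e),
      fun g => ((h.mem g).1 g.2).imp fun u e => Subtype.ext e⟩)]
  simp

theorem norm [Finite G] {g : G} {w : W2} (a : Ac f g w) : g ∈ normalizer (J : Set G) :=
  mem_normalizer_of_le fun j hj => by
    obtain ⟨u, rfl⟩ := (h.mem j).1 hj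
    exact (h.mem _).2 ⟨_, (a u).symm⟩

theorem big {A : Subgroup G} (hA : ∀ a ∈ A, ∃ w, Ac f a w) (h0 : ∀ a, Ac f a 0 → a ∈ J)
    (hc : ∀ a ∈ A, ∀ b ∈ A, a * b = b * a) (h3 : ∀ a ∈ A, a ^ 3 = 1) (h27 : 27 ≤ Nat.card A) :
    A ≤ J := by
  intro a ha
  obtain ⟨w, hw⟩ := hA a ha
  by_cases e : w = 0
  · exact h0 a (e ▸ hw)
  have c3 : ∀ b ∈ A, ∀ w, Ac f b w → pww w 3 = 0 := fun b hb w hw =>
    h.uniq (h3 b hb ▸ hw.pow 3) ac_one
  obtain ⟨⟨c, h1⟩, -, h2⟩ := big0 w (c3 a ha w hw) e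
  have : ∀ b : A, ∃ i : Fin 3 × Fin 3, f (i.2.val • c) = b * a ^ i.1.val := fun b => by
    obtain ⟨w', hw'⟩ := hA b b.2
    obtain ⟨i, hi⟩ := h2 w' (c3 b b.2 w' hw') (h.uniq (hc a ha b b.2 ▸ hw.mul hw') (hw'.mul hw))
    obtain ⟨y, hy⟩ := (h.mem _).1 (h0 _ (hi ▸ hw'.mul (hw.pow i)))
    obtain ⟨j, rfl⟩ := h1 y (h.inj (by
      rw [← hw, hy, hc a ha _ (mul_mem b.2 (pow_mem ha _)), mul_inv_cancel_right]))
    exact ⟨(i, j), hy⟩
  choose ψ hψ using this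
  have := Nat.card_le_card_of_injective ψ fun b b' e => Subtype.ext (mul_right_cancel
    ((hψ b).symm.trans (e ▸ hψ b')))
  rw [Nat.card_prod, Nat.card_fin] at this
  omega

end Jf

/-- the centraliser of `f x0` -/
structure Pre (J : Subgroup G) (f : V27 → G) (p r : G) : Prop extends Jf J f where
  pa : Ac f p (0, 1, 0)
  ra : Ac f r (0, 0, 1)
  p3 : p ^ 3 = 1
  cx : ∀ g, g * f x0 = f x0 * g → ∃ u, ∃ i : ZMod 3, ∃ k : ZMod 2, g = f u * p ^ i.val * r ^ k.val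

/-- the action on the numbered elements -/
def At (f : V27 → G) (g : G) (F : ℕ → ℕ) : Prop :=
  ∀ k, k < 27 → F k < 27 ∧ g * f (cv k) * g⁻¹ = f (cv (F k))

theorem At.mul {g g' : G} {F F' : ℕ → ℕ} (a : At f g F) (b : At f g' F') :
    At f (g * g') (fun k => F (F' k)) := fun k hk =>
  ⟨(a _ (b k hk).1).1, by rw [← (a _ (b k hk).1).2, ← (b k hk).2]; group⟩

theorem At.congr {g : G} {F F' : ℕ → ℕ} (a : At f g F) (e : ∀ k < 27, F k = F' k) : At f g F' :=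
  fun k hk => e k hk ▸ a k hk

theorem at_one : At f 1 (fun k => k) := fun k hk => ⟨hk, by group⟩

open H53.P3 H54

theorem Jf.lin (h : Jf J f) {g : G} {F : ℕ → ℕ} (a : At f g F) : At f g (lin (pk F)) := by
  intro k hk
  have b1 := a 1 (by omega)
  have b2 := a 3 (by omega)
  have b3 := a 9 (by omega)
  have e' : H53.P3.lin (pk F) k = ad (H53.P3.sm (k % 3) (pk F % 27))
    (ad (H53.P3.sm (k / 3 % 3) (pk F / 27 % 27)) (H53.P3.sm (k / 9) (pk F / 729))) := rfl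
  rw [e', show pk F % 27 = F 1 by unfold pk; omega, show pk F / 27 % 27 = F 3 by unfold pk; omega,
    show pk F / 729 = F 9 by unfold pk; omega]
  have s1 := cv_sm (k % 3) (by omega) _ b1.1
  have s2 := cv_sm (k / 3 % 3) (by omega) _ b2.1
  have s3 := cv_sm (k / 9) (by omega) _ b3.1
  have s4 := cv_ad _ s2.1 _ s3.1
  have s5 := cv_ad _ s1.1 _ s4.1
  refine ⟨s5.1, ?_⟩
  rw [s5.2, s4.2, s1.2, s2.2, s3.2, h.ah, h.ah, h.ah.nsmul, h.ah.nsmul, h.ah.nsmul, ← b1.2, ← b2.2,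
    ← b3.2, show cv k = (k % 3) • cv 1 + ((k / 3 % 3) • cv 3 + (k / 9) • cv 9) from rfl, h.ah, h.ah,
    h.ah.nsmul, h.ah.nsmul, h.ah.nsmul, conj_pow, conj_pow, conj_pow]
  group

namespace Pre

variable (h : Pre J f p r)
include h

theorem act0 (u : V27) (i : ZMod 3) (k : ZMod 2) :
    Ac f (f u * p ^ i.val * r ^ k.val) (0, i, k) := by
  have := ((h.acJ u).mul (h.pa.pow i.val)).mul (h.ra.pow k.val)
  rwa [show mw2 (mw2 0 (pww (0, 1, 0) i.val)) (pww (0, 0, 1) k.val) = (0, i, k) by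
    clear * -; revert i k; decide +kernel] at this

theorem cJ {g : G} (a : Ac f g 0) : g ∈ J := by
  obtain ⟨u, i, k, rfl⟩ := h.cx g (mul_inv_eq_iff_eq_mul.1 (a x0))
  obtain ⟨rfl, rfl⟩ : i = 0 ∧ k = 0 := by simpa [Prod.ext_iff] using h.uniq (h.act0 u i k) a
  exact (h.mem _).2 ⟨u, by simp⟩

omit h in
theorem at6 {g : G} {i : ZMod 3} {k : ZMod 2} (a : Ac f g (0, i, k)) {m : ℕ}
    (e : Y6.getD (i.val + 3 * k.val) 0 = m) : At f g (lin m) := fun l hl => by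
  subst e
  have := (by decide +kernel : ∀ (i : ZMod 3) (k : ZMod 2), ∀ l < 27,
    lin (Y6.getD (i.val + 3 * k.val) 0) l < 27 ∧
      cv (lin (Y6.getD (i.val + 3 * k.val) 0) l) = ac (0, i, k) (cv l)) i k l hl
  exact ⟨this.1, this.2 ▸ a _⟩

theorem actC {g : G} {F : ℕ → ℕ} (a : At f g F) (e : F 1 = 1) : pk F ∈ Y6 := by
  obtain ⟨u, i, k, e1⟩ := h.cx g (mul_inv_eq_iff_eq_mul.1 (by
    have := (a 1 (by omega)).2
    rwa [e] at this))
  have b := at6 (e1 ▸ h.act0 u i k) rfl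
  have u : ∀ l < 27, F l = lin (Y6.getD (i.val + 3 * k.val) 0) l := fun l hl =>
    cv_inj _ (a l hl).1 _ (b l hl).1 (h.inj ((a l hl).2.symm.trans (b l hl).2))
  rw [pk, u 1 (by omega), u 3 (by omega), u 9 (by omega)]
  clear * -; revert i k; decide +kernel

theorem act_apC {g : G} {m : ℕ} (a : At f g (lin m)) (n : ℕ) : ∀ c, ∃ u, At f u (apC m n c) := by
  induction n with
  | zero => exact fun _ => ⟨1, at_one⟩
  | succ n ih =>
    intro c
    obtain ⟨u, b⟩ := ih (c / 4)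
    have e : ∀ k, apC m (n + 1) c k =
        if c = 0 then k else lin (cd m (c % 4)) (apC m n (c / 4) k) := fun k => by
      show sel (Nat.beq c 0) _ (force _ _) = _
      simp only [force_eq]
      cases c <;> rfl
    by_cases c0 : c = 0
    · exact ⟨1, at_one.congr fun k _ => by rw [e, if_pos c0]⟩
    · obtain ⟨v, b'⟩ : ∃ v, At f v (lin (cd m (c % 4))) := by
        rcases (by omega : c % 4 = 0 ∨ c % 4 = 1 ∨ c % 4 = 2 ∨ c % 4 = 3) with e | e | e | e <;> rw [e]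
        exacts [⟨_, at6 h.ra (by decide : _ = 13204)⟩, ⟨_, a⟩, ⟨_, at6 h.pa (by decide : _ = 7885)⟩,
          ⟨_, at6 h.ra (by decide : _ = 13204)⟩]
      exact ⟨_, (b'.mul b).congr fun k _ => by rw [e, if_neg c0]⟩

theorem code {g : G} {F : ℕ → ℕ} (a : At f g F) : pk F ∈ Y48 ++ Y72 := by
  have b3 := (a 3 (by omega)).1
  have b9 := (a 9 (by omega)).1
  obtain ⟨c, e⟩ := exists_cert (a 1 (by omega)).1 (show F 3 + 27 * F 9 < 729 by omega)
  have a1 := h.lin a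
  rw [show F 1 + 27 * (F 3 + 27 * F 9) = pk F from rfl, chk1] at e
  generalize pk F = m at a1 e
  cases c0 : Nat.beq c 0 <;> rw [c0] at e
  · exfalso
    cases c4 : Nat.beq (Nat.mod c 4) 0 <;> rw [c4] at e <;>
      simp only [sel_true, sel_false, force_eq, band_eq_true, allL_iff, bnot_eq_true, Nat.beq_eq,
        Nat.blt_eq] at e
    · obtain ⟨u, b⟩ := h.act_apC a1 9 c
      exact e.2 _ (h.actC b e.1) rfl
    · have c1 : c ≠ 0 := Nat.ne_of_beq_eq_false c0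
      have c2 : c % 4 = 0 := Nat.eq_of_beq_eq_true c4
      have := (a1 (c / 4) (by omega)).2
      rw [show lin m (c / 4) = 0 from e.2, show cv 0 = 0 from rfl, h.ah.zero, conj_eq_one_iff,
        ← h.ah.zero] at this
      have := cv_inj _ (by omega) 0 (by omega) (h.inj this)
      omega
  · rw [sel_true] at e
    obtain ⟨f, hf, e⟩ := (anyL_iff _ _).1 e
    rwa [Nat.eq_of_beq_eq_true e]

theorem act120 {g : G} (hg : g ∈ normalizer (J : Set G)) : ∃ m ∈ Y48 ++ Y72, At f g (lin m) := by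
  have : ∀ k, ∃ l, k < 27 → l < 27 ∧ g * f (cv k) * g⁻¹ = f (cv l) := fun k => by
    obtain ⟨u, hu⟩ := (h.mem _).1 ((mem_normalizer_iff.1 hg _).1 ((h.mem _).2 ⟨cv k, rfl⟩))
    obtain ⟨l, hl, rfl⟩ := cv_surj u
    exact ⟨l, fun _ => ⟨hl, hu.symm⟩⟩
  choose F hF using this
  exact ⟨_, h.code hF, h.lin hF⟩

theorem tw (b : ZMod 3) : Pre J (fun u => f (tw b u)) p r := by
  obtain ⟨t1, t2, t3, t4, t5⟩ : (∀ u v, S9.tw b (u + v) = S9.tw b u + S9.tw b v) ∧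
      (∀ u, S9.tw b (S9.tw (-b) u) = u ∧ S9.tw (-b) (S9.tw b u) = u) ∧
      (∀ u, ac (0, 1, 0) (S9.tw b u) = S9.tw b (ac (0, 1, 0) u)) ∧
      (∀ u, ac (0, 0, 1) (S9.tw b u) = S9.tw b (ac (0, 0, 1) u)) ∧ S9.tw b x0 = x0 := by
    clear * -; revert b; decide +kernel
  refine ⟨⟨fun u v => by rw [t1, h.ah], fun u v e => by rw [← (t2 u).2, h.inj e, (t2 v).2],
    fun g => (h.mem g).trans ⟨fun ⟨u, e⟩ => ⟨_, (t2 u).1.symm ▸ e⟩, fun ⟨u, e⟩ => ⟨_, e⟩⟩⟩,
    fun u => t3 u ▸ h.pa _, fun u => t4 u ▸ h.ra _, h.p3, fun g hg => ?_⟩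
  obtain ⟨u, e⟩ := h.cx g (t5 ▸ hg)
  exact ⟨_, (t2 u).1.symm ▸ e⟩

theorem exists_mono : ∃ f', Pre J f' p r ∧ f' x0 = f x0 ∧
    ∀ g ∈ normalizer (J : Set G), ∃ w, Ac f' g w := by
  obtain ⟨b, hb⟩ : ∃ b, ∀ g ∈ normalizer (J : Set G), ∃ m ∈ Lb b, At f g (lin m) := by
    by_cases e : ∀ g ∈ normalizer (J : Set G), ∃ m ∈ Lb 0, At f g (lin m)
    · exact ⟨0, e⟩
    push Not at e
    obtain ⟨g, hg, e⟩ := e
    obtain ⟨m, hm, a⟩ := h.act120 hg
    obtain ⟨b, hb⟩ := lb1 m hm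
    refine ⟨b, fun g' hg' => ?_⟩
    obtain ⟨m', hm', a'⟩ := h.act120 hg'
    obtain ⟨b', e1, e2⟩ := lb3 hm hm' (h.code (a.mul a'))
    exact ⟨m', (lb4 b m hb b' e1).resolve_right (fun e' => e m (e' 0) a) ▸ e2, a'⟩
  refine ⟨_, h.tw b, congrArg f (by clear * -; revert b; decide +kernel), fun g hg => ?_⟩
  obtain ⟨m, hm, a⟩ := hb g hg
  obtain ⟨w, hw⟩ := lb2 b m hm
  refine ⟨w, fun u => ?_⟩
  obtain ⟨k, hk, e⟩ := cv_surj (S9.tw b u)
  beta_reduce
  rw [← e, (a k hk).2, hw k hk, e, show S9.tw (-b) (S9.tw b u) = u by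
    clear * -; revert b u; decide +kernel]

end Pre

end H58.S9
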