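import Cfsg.Agent.Lib.Sym9.Typ
import Cfsg.Agent.Lib.A9.Cons

/-! The missing relation and the construction of a subgroup `S₉`. -/

set_option autoImplicit false
set_option synthInstance.maxSize 2048

namespace H58.S9

open Equiv Equiv.Perm H58.Cd H58.SE H53.Odd H58.N9 Subgroup

def Tw (i : Fin 3) : W2 := (ro i (1, 0, 0), 0, 0)
def zz (i : Fin 3) : P9 := e3 ^ i.val * T3 * (e3 ^ i.val)⁻¹
def LK : List P9 := [swap 1 3, swap 1 2 * swap 2 3 * swap 4 5, swap 0 4, swap 0 2 * swap 2 4 * swap 3 5,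
  swap 0 2 * swap 0 4 * swap 1 5, swap 0 2 * swap 1 3 * swap 3 5]

theorem y3 : ∀ a b : Fin 9, a ≠ b → (nz2 e3 (swap a b) → ∃ i, (swap a b * tt i) ^ 3 = 1) ∧
    ((∀ i : Fin 3, swap a b * tt i.castSucc = tt i.castSucc * swap a b) →
      ∃ i : Fin 3, swap a b = tt i.castSucc ∨ swap a b = zz i) := by decide +kernel

theorem y4 : ∀ a b : Fin 4, a ≠ b → a ≠ 3 → b ≠ 3 → ∃ k ∈ LK, nz2 e3 k ∧
    k * tt a * k⁻¹ = pm2 (0, Tw 0) ∧ k * tt b * k⁻¹ = pm2 (0, Tw 1) ∧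
      k * tt 3 * k⁻¹ = pm2 (0, Tw 2) := by
  simp only [LK, List.mem_cons, List.not_mem_nil, or_false, exists_eq_or_imp, exists_eq_left]
  decide +kernel

variable {G : Type*} [Group G] [Finite G] {J : Subgroup G} {φ : M2 → G} {m n o : PH P9 G}

theorem St.cT (h : St 3 J φ) (i : Fin 3) : IsConj (φ (0, we)) (φ (0, Tw i)) :=
  h.mdl.conj_of (0, 0, i.val + 1, 0) (by revert i; decide +kernel)

omit [Finite G] in
theorem Lc2.mt (l : Lc2 φ m e3) (i : Fin 4) : tt i ∈ m.S := l.S.2 (by revert i; decide +kernel)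

theorem Lc2.ct (l : Lc2 φ m e3) (h : St 3 J φ) (i : Fin 4) : IsConj (φ (0, we)) (m.f (tt i)) := by
  by_cases e : i = 3
  · rw [e, l.ag' (0, we) (by decide +kernel)]
  obtain ⟨j, a, b⟩ := (by decide : ∀ i : Fin 4, i ≠ 3 → ∃ j, i ≠ j ∧ j ≠ 3) i e
  obtain ⟨k, -, k1, k2, -⟩ := y4 i j a e b
  refine (h.cT 0).trans (IsConj.symm (isConj_iff.2 ⟨m.f k, ?_⟩))
  rw [← m.conj (l.S.2 k1) (l.mt i), k2, l.ag _ (l.S.2 (by decide +kernel))]

theorem Lc2.exg (l : Lc2 φ m e3) (h : St 3 J φ) :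
    ∃ g, ∀ i : Fin 3, g * m.f (tt i.castSucc) * g⁻¹ = φ (0, Tw i) := by
  have he : e3 ∈ m.S := l.S.2 (by decide +kernel)
  have mv : ∀ d : D3 × ZMod 2, vE d.1 * tt 3 ^ d.2.val ∈ m.S := fun d =>
    l.S.2 (by revert d; decide +kernel)
  have hA : AH fun d : D3 × ZMod 2 => m.f (vE d.1 * tt 3 ^ d.2.val) := fun d d' => by
    beta_reduce; rw [← m.mul (mv _) (mv _)]; congr 1; revert d d'; decide +kernel
  have hE : IsPGroup 2 hA.hom.range := by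
    rintro ⟨_, u, rfl⟩
    exact ⟨1, Subtype.ext (by
      rw [Subgroup.coe_pow, ← map_pow, show u ^ 2 ^ 1 = 1 by revert u; decide, map_one]; rfl)⟩
  have mE : ∀ i, m.f (tt i) ∈ hA.hom.range := fun i => by
    obtain ⟨d, e⟩ := (by decide +kernel : ∀ i, ∃ d : D3 × ZMod 2, vE d.1 * tt 3 ^ d.2.val = tt i) i
    exact ⟨Multiplicative.ofAdd d, congrArg m.f e⟩
  have cE : ∀ i, ∀ x ∈ hA.hom.range, x * m.f (tt i) = m.f (tt i) * x := fun i x hx => by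
    obtain ⟨u, rfl⟩ := hx
    obtain ⟨v, e⟩ := mE i
    rw [← e, ← map_mul, ← map_mul, mul_comm]
  let C : Subgroup G := centralizer {m.f (tt 3)}
  have hC : ∀ {g}, g ∈ C ↔ g * m.f (tt 3) = m.f (tt 3) * g := mem_centralizer_singleton_iff
  obtain ⟨P, hP⟩ := (hE.comap_subtype (K := C)).exists_le_sylow
  have hP' := P.isPGroup'.map C.subtype
  have mP : ∀ i, m.f (tt i) ∈ (P : Subgroup C).map C.subtype := fun i =>
    ⟨⟨_, hC.2 (cE 3 _ (mE i))⟩, hP (mE i), rfl⟩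
  have sw4 : ∀ s i, s * m.f (tt i) * s⁻¹ ∈ (P : Subgroup C).map C.subtype →
      s * m.f (tt i) * s⁻¹ ∈ m.range → ∃ j, s * m.f (tt i) * s⁻¹ = m.f (tt j) := fun s i a b => by
    obtain ⟨q, hq, e⟩ := m.mem_range.1 b
    obtain ⟨x, y, xy, rfl⟩ := l.typ h hq ((l.ct h i).trans (isConj_iff.2 ⟨s, e.symm⟩))
    obtain ⟨j, f⟩ := (y3 x y xy).1 (l.S.1 hq)
    refine ⟨j, ?_⟩
    have := p21 hP' (mul_mem a (mP j)) (n := 1) (by
      rw [← e, ← m.mul hq (l.mt j), pow_one, m.pow_eq_one_iff (mul_mem hq (l.mt j)), f])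
    rw [eq_inv_of_mul_eq_one_left this, ← m.inv (l.mt j)]
    congr 1; clear * -; revert j; decide +kernel
  have hle : (P : Subgroup C).map C.subtype ≤ m.range := by
    by_contra hn
    obtain ⟨s, hs, hsn, hs'⟩ := H2.exists_mem_normalizer_not_mem hP'.isNilpotent
      (lt_of_le_of_ne inf_le_left fun e : _ ⊓ m.range = _ => hn (e ▸ inf_le_right))
    have c1 : ∀ i : Fin 3, s * m.f e3 * s⁻¹ * m.f (tt i.castSucc) =
        m.f (tt i.castSucc) * (s * m.f e3 * s⁻¹) := fun i => by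
      have := (mem_normalizer_iff.1 (inv_mem hsn) _).1 ⟨mP i.castSucc, m.f_mem (l.mt _)⟩
      obtain ⟨j, e⟩ := sw4 _ _ this.1 this.2
      refine SE.comm_of_conj (g := s⁻¹) ?_
      rw [e, show s⁻¹ * (s * m.f e3 * s⁻¹) * s⁻¹⁻¹ = m.f e3 by group, m.comm_iff he (l.mt j)]
      refine (by decide +kernel : ∀ j, j ≠ 3 → e3 * tt j = tt j * e3) j ?_
      rintro rfl
      rw [← mul_inv_eq_iff_eq_mul.2 (hC.1 (inv_mem (map_subtype_le _ hs))), mul_left_inj,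
        mul_right_inj, m.eq_iff (l.mt _) (l.mt _)] at e
      clear * - e; revert i; decide +kernel
    obtain ⟨q, hq, f⟩ := m.mem_range.1 (l.cen h c1)
    have c2 := fun i => (m.comm_iff hq (l.mt _)).1 (f ▸ c1 i)
    refine hs' ⟨hs, l.rng s ?_⟩
    rcases (y2 (c2 0) (c2 1) (c2 2)).1 ((m.pow_eq_one_iff hq 3).1 (f ▸ conj_cube (l.fx ▸ h.cube _)))
      with rfl | rfl | rfl
    · exact absurd (f.symm.trans m.one) (conj_ne_one (l.fx ▸ h.ne (by decide)))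
    · exact Or.inl f.symm
    · exact Or.inr (f.symm.trans (m.inv he))
  obtain ⟨g, hg⟩ := isConj_iff.1 ((l.ct h 2).symm.trans (l.ct h 3))
  obtain ⟨k, hk⟩ := H9.exists_conj_mem_sylow P
    ((hE.map (MulAut.conj g).toMonoidHom).comap_subtype (K := C))
  have key : ∀ i, ∃ j, k * g * m.f (tt i) * (k * g)⁻¹ = m.f (tt j) := fun i => by
    have : (k : G) * g * m.f (tt i) * (k * g)⁻¹ ∈ (P : Subgroup C).map C.subtype :=
      ⟨_, hk ⟨g * m.f (tt i) * g⁻¹, hC.2 (hg ▸ SE.conj_comm (cE 2 _ (mE i)))⟩ ⟨_, mE i, rfl⟩, by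
        simp [mul_assoc]⟩
    exact sw4 _ _ this (hle this)
  choose δ hδ using key
  have e2 : k * g * m.f (tt 2) * (k * g)⁻¹ = m.f (tt 3) := by
    rw [← mul_inv_eq_iff_eq_mul.2 (hC.1 k.2), ← hg]; group
  have ne : ∀ i j a b, i ≠ j → k * g * m.f (tt i) * (k * g)⁻¹ = m.f (tt a) →
      k * g * m.f (tt j) * (k * g)⁻¹ = m.f (tt b) → a ≠ b := fun i j a b ij e f ab => by
    rw [ab, ← f, mul_left_inj, mul_right_inj, m.eq_iff (l.mt _) (l.mt _)] at e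
    clear * - ij e; revert i j; decide +kernel
  obtain ⟨x, -, x1, x2, x3, x4⟩ := y4 _ _ (ne 0 1 _ _ (by decide) (hδ 0) (hδ 1))
    (ne 0 2 _ _ (by decide) (hδ 0) e2) (ne 1 2 _ _ (by decide) (hδ 1) e2)
  have fin : ∀ i a (j : Fin 3), k * g * m.f (tt i) * (k * g)⁻¹ = m.f (tt a) →
      x * tt a * x⁻¹ = pm2 (0, Tw j) →
      m.f x * (k * g) * m.f (tt i) * (m.f x * (k * g))⁻¹ = φ (0, Tw j) := fun i a j e f => by
    rw [← l.ag _ (l.S.2 (by clear * -; revert j; decide +kernel)), ← f, m.conj (l.S.2 x1) (l.mt a), ← e]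
    group
  refine ⟨m.f x * (k * g), fun i => ?_⟩
  fin_cases i
  exacts [fin 0 _ 0 (hδ 0) x2, fin 1 _ 1 (hδ 1) x3, fin 2 _ 2 e2 x4]

theorem rel (h : St 3 J φ) (l : Lc2 φ m e3) (l' : Lc2 φ n e1) (l'' : Lc2 φ o e2) :
    m.f (swap 2 5) * n.f (xl 2) = n.f (xl 2) * m.f (swap 2 5) := by
  obtain ⟨g, hg⟩ := l.exg h
  have mz : ∀ i, zz i ∈ m.S := fun i => l.S.2 (by revert i; decide +kernel)
  have key : ∀ {x : PH P9 G} {e : P9}, Lc2 φ x e → ∀ q k j, (nz2 e q ∧ nz2 e k ∧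
      k * pm2 (0, Tw j) * k⁻¹ = q ∧ ∀ i, nz2 e (pm2 (0, Tw i)) ∧
        q * pm2 (0, Tw i) = pm2 (0, Tw i) * q ∧ q ≠ pm2 (0, Tw i)) →
      ∃ i, g * m.f (zz i) * g⁻¹ = x.f q := fun {x e} lx q k j ⟨a, b, d, f⟩ => by
    have hq := lx.S.2 a
    have mT := fun i => lx.S.2 (f i).1
    have c1 : ∀ i : Fin 3, g⁻¹ * x.f q * g * m.f (tt i.castSucc) =
        m.f (tt i.castSucc) * (g⁻¹ * x.f q * g) := fun i => SE.comm_of_conj (g := g) (by
      rw [hg, ← lx.ag _ (mT i)]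
      simpa [mul_assoc] using (x.comm_iff hq (mT i)).2 (f i).2.1)
    obtain ⟨r, hr, e⟩ := m.mem_range.1 (l.cen h c1)
    obtain ⟨a, b, ab, rfl⟩ := l.typ h hr ((h.cT j).trans (isConj_iff.2 ⟨g⁻¹ * x.f k, by
      rw [e, ← d, x.conj (lx.S.2 b) (mT j), lx.ag _ (mT j)]; group⟩))
    obtain ⟨i, e' | e'⟩ := (y3 a b ab).2 fun i => (m.comm_iff hr (l.mt _)).1 (e ▸ c1 i)
    · refine absurd (x.inj hq (mT i) ?_) (f i).2.2
      rw [lx.ag _ (mT i), ← hg, ← e', e]; group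
    · exact ⟨i, by rw [← e', e]; group⟩
  obtain ⟨i, e1'⟩ := key l (swap 2 5) (swap 2 3 * swap 4 5) 1 (by decide +kernel)
  obtain ⟨j, e2'⟩ := key l' (swap 5 8) (swap 3 5 * swap 4 8) 1 (by decide +kernel)
  obtain ⟨k, e3'⟩ := key l'' (swap 2 8) (swap 0 2 * swap 1 8) 0 (by decide +kernel)
  have ne : ∀ {x y : PH P9 G} {e e' : P9}, Lc2 φ x e → Lc2 φ y e' → ∀ q r u i j,
      g * m.f (zz i) * g⁻¹ = x.f q → g * m.f (zz j) * g⁻¹ = y.f r → (nz2 e q ∧ nz2 e' r ∧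
      nz2 e (pm2 (u, 0)) ∧ nz2 e' (pm2 (u, 0)) ∧ q * pm2 (u, 0) = pm2 (u, 0) * q ∧
      r * pm2 (u, 0) ≠ pm2 (u, 0) * r) → i ≠ j := fun lx ly q r u i j e f ⟨a, b, c, d, x, y⟩ ij => by
    rw [← PH.comm_iff _ (lx.S.2 a) (lx.S.2 c), lx.ag _ (lx.S.2 c), ← e, ij, f, ← ly.ag _ (ly.S.2 d),
      PH.comm_iff _ (ly.S.2 b) (ly.S.2 d)] at x
    exact y x
  have := (m.conj_iff (mz j) (mz k) (mz i)).2 ((by decide +kernel : ∀ i j k, i ≠ j → j ≠ k → k ≠ i →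
    zz j * zz k * (zz j)⁻¹ = zz i) i j k
    (ne l l' _ _ (0, 0, 1) i j e1' e2' (by decide +kernel))
    (ne l' l'' _ _ (1, 0, 0) j k e2' e3' (by decide +kernel))
    (ne l'' l _ _ (0, 1, 0) k i e3' e1' (by decide +kernel)))
  have m1 : swap 5 8 ∈ n.S := l'.S.2 (by decide +kernel)
  have m2 : e2 ∈ n.S := l'.S.2 (by decide +kernel)
  rw [← e1', ← this, ← conj_mul, ← conj_mul, ← conj_inv, e2', e3',
    show xl 2 = swap 5 8 * e2 * (swap 5 8)⁻¹ by decide +kernel, n.conj m1 m2,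
    l'.ag' (q := e2) ((0, 1, 0), 0) (by decide +kernel),
    ← l''.ag' (q := e2) ((0, 1, 0), 0) (by decide +kernel)]
  exact SE.conj_comm ((o.comm_iff (l''.S.2 (by decide +kernel)) (l''.S.2 (by decide +kernel))).2
    (by decide +kernel))

theorem exists_S9 (h : St 3 J φ) (l : Lc2 φ m e3) :
    ∃ k : PH P9 G, k.S = ⊤ ∧ NJ J ≤ k.range ∧ m.range ≤ k.range := by
  have M := h.mdl
  obtain ⟨n, l'⟩ := l.tw M (0, 0, 1, 0)
  obtain ⟨o, l''⟩ := l.tw M (0, 0, 2, 0)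
  rw [show pm2 (0, 0, 1, 0) * e3 * (pm2 (0, 0, 1, 0))⁻¹ = e1 by decide +kernel] at l'
  rw [show pm2 (0, 0, 2, 0) * e3 * (pm2 (0, 0, 2, 0))⁻¹ = e2 by decide +kernel] at l''
  have x1 : ∀ i, xk i ∈ m.S := fun i => l.S.2 (by revert i; decide +kernel)
  have x2 : ∀ i, xl i ∈ n.S := fun i => l'.S.2 (by revert i; decide +kernel)
  have e2 : n.f (xl 3) = m.f (xk 3) := (l'.ag' ((0, 1, 0), 0) (by decide +kernel)).trans
    (l.ag' _ (by decide +kernel)).symm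
  have k2 : ∀ i j, i ≠ j → (m.f (xk i) * m.f (xk j)) ^ 2 = 1 := fun i j hij => by
    rw [← m.mul (x1 i) (x1 j), m.pow_eq_one_iff (mul_mem (x1 i) (x1 j))]
    clear * - hij; revert i j; decide +kernel
  have k3 : ∀ i j, i ≠ j → (n.f (xl i) * n.f (xl j)) ^ 2 = 1 := fun i j hij => by
    rw [← n.mul (x2 i) (x2 j), n.pow_eq_one_iff (mul_mem (x2 i) (x2 j))]
    clear * - hij; revert i j; decide +kernel
  have k0 : (m.f (xk 2) * n.f (xl 2)) ^ 2 = 1 := by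
    rw [show xk 2 = swap 2 5 * xk 3 * (swap 2 5)⁻¹ by decide +kernel,
      m.conj (l.S.2 (by decide +kernel)) (x1 3), ← mul_inv_eq_iff_eq_mul.2 (rel h l l' l''), conj_mul,
      conj_pow, ← e2, k3 3 2 (by decide)]; simp
  have k1 : ∀ (i : Fin 3) j, (m.f (xk i.castSucc) * n.f (xl j)) ^ 2 = 1 := fun i j => by
    by_cases hj : j = 3
    · rw [hj, e2]; exact k2 _ _ (Fin.castSucc_lt_last i).ne
    obtain ⟨a, b, c, d⟩ : nz2 e3 (pm2 ((i.val + 1, 0, j.val + 1), 0)) ∧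
        nz2 e1 (pm2 ((i.val + 1, 0, j.val + 1), 0)) ∧
        pm2 ((i.val + 1, 0, j.val + 1), 0) * xk 2 * (pm2 ((i.val + 1, 0, j.val + 1), 0))⁻¹ =
          xk i.castSucc ∧
        pm2 ((i.val + 1, 0, j.val + 1), 0) * xl 2 * (pm2 ((i.val + 1, 0, j.val + 1), 0))⁻¹ = xl j := by
      clear * - hj; revert i j; decide +kernel
    rw [← c, ← d, m.conj (l.S.2 a) (x1 2), n.conj (l'.S.2 b) (x2 2), l.ag _ (l.S.2 a),
      l'.ag _ (l'.S.2 b), conj_mul, conj_pow, k0]; simp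
  have t1 : T2 ∈ m.S := l.S.2 (by decide +kernel)
  have t2 : T2 ∈ n.S := l'.S.2 (by decide +kernel)
  have f1 : m.f T2 = φ (0, Tw 1) := l.ag' _ (by decide +kernel)
  have f2 : n.f T2 = φ (0, Tw 1) := l'.ag' _ (by decide +kernel)
  obtain ⟨k, hk, hT, hY⟩ := exists_sym (n := 9) (by simp) (by norm_num) (YY m n) (by
      rintro (i | i)
      · exact (m.pow_eq_one_iff (x1 _) 3).2 (by clear * -; revert i; decide +kernel)
      · exact (n.pow_eq_one_iff (x2 _) 3).2 (by clear * -; revert i; decide +kernel)) (by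
      rintro (i | i) (j | j) hij
      · exact k2 _ _ fun e => hij (congrArg _ (Fin.castSucc_injective _ e))
      · exact k1 i j
      · have := k1 j i
        simp only [YY]
        generalize m.f (xk j.castSucc) = x at *
        calc _ = x⁻¹ * (x * n.f (xl i)) ^ 2 * x := by simp [pow_two, mul_assoc]
          _ = 1 := by rw [this]; simp
      · exact k3 i j fun e => hij (e ▸ rfl)) (i := .inl 0)
    ((m.eq_one_iff (x1 _)).not.2 (by decide +kernel)) (h.sqW (w := Tw 1) (h.x3 _) (by decide)) (by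
      rintro (i | i) <;> simp only [YY]
      · rw [← f1, ← m.inv (x1 _), m.conj_iff t1 (x1 _) (inv_mem (x1 _))]
        clear * -; revert i; decide +kernel
      · rw [← f2, ← n.inv (x2 _), n.conj_iff t2 (x2 _) (inv_mem (x2 _))]
        clear * -; revert i; decide +kernel)
  have h3 : ∀ i, m.f (xk i) ∈ k.range := fun i => by
    induction i using Fin.lastCases with
    | last => exact e2 ▸ hY (.inr 3)
    | cast i => exact hY (.inl i)
  have w2 : ∀ w : List (Fin 4), (w.map xl).prod ∈ n.S ∧ n.f (w.map xl).prod ∈ k.range := fun w => by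
    induction w with
    | nil => exact ⟨one_mem _, n.one ▸ one_mem _⟩
    | cons a w ih =>
      rw [List.map_cons, List.prod_cons, n.mul (x2 a) ih.1]
      exact ⟨mul_mem (x2 a) ih.1, mul_mem (hY (.inr a)) ih.2⟩
  have w3 := (w2 [0, 1, 2, 0, 1]).2
  have w4 := (w2 [0, 1, 1, 0]).2
  have w5 := (w2 [0, 1, 2, 3, 3, 2]).2
  rw [l'.ag' (τ2 (1, 0, 0)) (by decide +kernel)] at w3
  rw [l'.ag' (τ2 (0, 1, 1)) (by decide +kernel)] at w4
  rw [l'.ag' (0, (0, 0, 1), 2, 1) (by decide +kernel)] at w5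
  have hm : m.range ≤ k.range := by
    rintro _ ⟨⟨q, hq⟩, rfl⟩
    obtain ⟨t, ht⟩ := dec2 (l.S.1 hq)
    obtain ⟨r, hr, e⟩ := gen_xk (F := (k.range.comap m.hom).map m.S.subtype)
      (fun i => ⟨⟨_, x1 i⟩, h3 i, rfl⟩) ht
    have mt : pm2 (τ2 t) ∈ m.S := l.S.2 (by clear * -; revert t; decide +kernel)
    obtain ⟨a, b, c, f⟩ := (by decide +kernel : ∀ t, ∃ a : Fin 3, ∃ b c : Fin 2, τ2 t =
      mul2 (mul2 (pw2 (τ2 (1, 0, 0)) a) (pw2 (τ2 (0, 1, 1)) b)) (pw2 (0, Tw 1) c)) t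
    have : φ (τ2 t) ∈ k.range := by
      rw [f, M.hom, M.hom, ← h.pw (h.x3 _), ← h.pw (h.x3 _), ← h.pw (h.x3 _)]
      exact mul_mem (mul_mem (pow_mem w3 _) (pow_mem w4 _)) (pow_mem hT _)
    have := mul_mem (show m.f r ∈ k.range from hr) this
    rwa [← l.ag _ mt, ← m.mul r.2 mt, show (r : P9) = _ from e, inv_mul_cancel_right] at this
  have hp : ∀ p : M2, ac p.2 (rep 1) = rep 1 ∨ ac p.2 (rep 1) = -rep 1 → φ p ∈ k.range := fun p hp => by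
    refine hm (l.rng _ ?_)
    rwa [l.fx, (h.act (h.x3 _)).cj, ← h.neg, h.injJ, h.injJ]
  refine ⟨k, hk, fun g hg => ?_, hm⟩
  obtain ⟨p, rfl⟩ := (M.mem g).1 hg
  obtain ⟨i, e⟩ := (by decide +kernel : ∀ w, ∃ i : Fin 3,
    ac (mw2 w (pw2 (mul2 (0, (0, 0, 1), 0, 1) (0, (0, 0, 1), 2, 1)) i).2) (rep 1) = rep 1 ∨
    ac (mw2 w (pw2 (mul2 (0, (0, 0, 1), 0, 1) (0, (0, 0, 1), 2, 1)) i).2) (rep 1) = -rep 1) p.2
  have := hp (mul2 p _) e
  rwa [M.hom, ← h.pw (h.x3 _), M.hom, mul_mem_cancel_right (pow_mem (mul_mem (hp _ (by decide)) w5) _)]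
    at this

end H58.S9
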