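import Cfsg.Agent.Lib.A8.Sc

/-! The Feit–Thompson theorem on self-centralising elements of order three, for the centraliser of
an elementary abelian group of order eight. -/

set_option autoImplicit false

namespace H58.S9

open Subgroup Equiv Equiv.Perm H58.SE
open scoped Pointwise

variable {G : Type*} [Group G] [Finite G]

theorem scD8 {D K V : Subgroup G} (hD : IsPGroup 3 D) (hn : D ≤ normalizer (K : Set G))
    (hVK : V ≤ K) (hV4 : Nat.card V = 8) (hsq : ∀ v ∈ V, v * v = 1)
    (hcen : ∀ v ∈ V, ∀ k ∈ K, k * v = v * k) {z : G} (hz : z ∈ K) (h3 : z ^ 3 = 1) (h1 : z ≠ 1)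
    (hC : ∀ k ∈ K, k * z = z * k → ∃ i : ℕ, k * z ^ i ∈ V) :
    (∃ X ≤ K, D ≤ normalizer (X : Set G) ∧ (Nat.card X).Coprime 3 ∧
      ∀ k ∈ K, k * z * k⁻¹ * z⁻¹ ∈ X ∨ k * z * k⁻¹ * z ∈ X) ∨
    (∃ X ≤ K, D ≤ normalizer (X : Set G) ∧ (Nat.card X).Coprime 3 ∧ X.relIndex K = 15 ∧ ¬ X ≤ V) ∨
    ∃ X ≤ K, D ≤ normalizer (X : Set G) ∧ Nat.card X = 7 := by
  have : Fact (Nat.Prime 3) := ⟨by norm_num⟩
  let A := V.subgroupOf K
  have hA : A.Normal := ⟨fun n hn g => by
    rw [mem_subgroupOf, Subgroup.coe_mul, Subgroup.coe_mul, hcen n hn _ g.2]; simpa using mem_subgroupOf.1 hn⟩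
  have hA4 : Nat.card A = 8 := by rw [← hV4]; exact Nat.card_congr (subgroupOfEquivOfLe hVK).toEquiv
  let π : K →* K ⧸ A := QuotientGroup.mk' A
  have hπ : ∀ g : K, π g = 1 ↔ (g : G) ∈ V := fun g => QuotientGroup.eq_one_iff g
  have hsurj : Function.Surjective π := QuotientGroup.mk'_surjective A
  let z' : K := ⟨z, hz⟩
  have hv1 : ∀ v ∈ V, v ^ 3 = 1 → v = 1 := fun v hv h => by
    rwa [pow_succ, pow_two, hsq v hv, one_mul] at h
  have z3 : π z' ^ 3 = 1 := by rw [← map_pow, show z' ^ 3 = 1 from Subtype.ext h3, map_one]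
  have z1 : π z' ≠ 1 := fun h => h1 (hv1 z ((hπ z').1 h) h3)
  have hcardK : Nat.card K = Nat.card (K ⧸ A) * 8 := by rw [← hA4, ← card_eq_card_quotient_mul_card_subgroup]
  have hcomap : ∀ N : Subgroup (K ⧸ A), Nat.card (N.comap π) = Nat.card N * 8 := by
    intro N
    have e1 := (N.comap π).card_mul_index
    have e2 := N.card_mul_index
    rw [index_comap_of_surjective _ hsurj, hcardK, ← e2] at e1
    have : 0 < N.index := Nat.pos_of_ne_zero index_ne_zero_of_finite
    nlinarith
  rcases Cfsg.Agent.S3331.result (zpowers (π z'))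
    (by rw [Nat.card_zpowers, H53.Odd.orderOf_three z3 z1]) (by
      rw [zpowers_eq_closure, centralizer_closure, ← zpowers_eq_closure]
      refine le_antisymm (fun k hk => ?_) (zpowers_le.2 (mem_centralizer_singleton_iff.2 rfl))
      obtain ⟨k, rfl⟩ := hsurj k
      have h4 : (k : G) * z * (k : G)⁻¹ * z⁻¹ ∈ V := (hπ (k * z' * k⁻¹ * z'⁻¹)).1 (by
        simp [mem_centralizer_singleton_iff.1 hk])
      have h5 := hv1 _ h4 (by
        have : ((k : G) * z * (k : G)⁻¹ * z⁻¹ * z) ^ 3 = 1 := by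
          rw [inv_mul_cancel_right]; exact conj_cube h3
        rwa [(show Commute _ z from (hcen _ h4 z hz).symm).mul_pow, h3, mul_one] at this)
      rw [mul_inv_eq_one, mul_inv_eq_iff_eq_mul] at h5
      obtain ⟨i, hi⟩ := hC k k.2 h5
      have := (hπ (k * z' ^ i)).2 hi
      rw [map_mul, map_pow, mul_eq_one_iff_eq_inv] at this
      rw [this]; exact inv_mem (pow_mem (mem_zpowers _) i))
    with ⟨N, hN, -, hN3, hq⟩ | ⟨N, hN, -, hN2, ⟨e⟩⟩ | ⟨⟨e⟩⟩
  · left
    have hle : (N.comap π).map K.subtype ≤ Cfsg.piCoreOf ({3}ᶜ : Set ℕ) K := map_mono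
      (H1.le_piCore (H1.isPiSubgroup_compl_singleton_iff.2 (by
        rw [hcomap]; exact hN3.mul_left (by norm_num))))
    refine ⟨Cfsg.piCoreOf ({3}ᶜ : Set ℕ) K, H1.piCoreOf_le K,
      hn.trans (H1.normalizer_le_normalizer_piCoreOf K),
      H1.isPiSubgroup_compl_singleton_iff.1 (H1.isPiSubgroup_piCoreOf K), fun k hk => ?_⟩
    let ψ := (QuotientGroup.mk' N).comp π
    have hψ : ∀ g : K, ψ g = 1 → (g : G) ∈ Cfsg.piCoreOf ({3}ᶜ : Set ℕ) K := fun g hg =>
      hle ⟨g, (QuotientGroup.eq_one_iff (π g)).1 hg, rfl⟩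
    have x3 : ψ z' ^ 3 = 1 := by rw [← map_pow, show z' ^ 3 = 1 from Subtype.ext h3, map_one]
    have key : ψ ⟨k, hk⟩ * ψ z' * (ψ ⟨k, hk⟩)⁻¹ * (ψ z')⁻¹ = 1 ∨
        ψ ⟨k, hk⟩ * ψ z' * (ψ ⟨k, hk⟩)⁻¹ * ψ z' = 1 := by
      generalize ψ ⟨k, hk⟩ = y
      generalize ψ z' = x at x3
      rcases hq with hq | ⟨⟨e⟩⟩
      · have := isCyclic_of_prime_card hq
        left; rw [(IsCyclic.isMulCommutative).is_comm.comm y x]; simp
      · have h6 : (e x) ^ 3 = 1 := by rw [← map_pow, x3, map_one]
        rw [← EmbeddingLike.map_eq_one_iff (f := e), ← EmbeddingLike.map_eq_one_iff (f := e)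
          (x := y * x * y⁻¹ * x)]
        simp only [map_mul, map_inv]
        generalize e x = a at *
        generalize e y = c
        clear * - h6; revert a c; decide +kernel
    rcases key with h | h
    · exact Or.inl (hψ (⟨k, hk⟩ * z' * (⟨k, hk⟩)⁻¹ * z'⁻¹) (by simpa using h))
    · exact Or.inr (hψ (⟨k, hk⟩ * z' * (⟨k, hk⟩)⁻¹ * z') (by simpa using h))
  · right; left
    let ψ : K →* alternatingGroup (Fin 5) := e.toMonoidHom.comp ((QuotientGroup.mk' N).comp π)
    have hψ : Function.Surjective ψ :=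
      e.surjective.comp ((QuotientGroup.mk'_surjective N).comp hsurj)
    have hk2 : IsPGroup 2 ψ.ker := by
      intro g
      have h4 : π g ∈ N := (QuotientGroup.eq_one_iff _).1
        ((EmbeddingLike.map_eq_one_iff (f := e)).1 g.2)
      have h5 := (hπ (g ^ 2)).1 (by rw [map_pow]; exact hN2 _ h4)
      refine ⟨2, Subtype.ext (Subtype.ext ?_)⟩
      have := hsq _ h5
      simpa [pow_succ, mul_assoc] using this
    let p : alternatingGroup (Fin 5) := ⟨St.v1, by
      rw [mem_alternatingGroup, Cd.sign_eq_one]; decide +kernel⟩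
    let q : alternatingGroup (Fin 5) := ⟨St.v2, by
      rw [mem_alternatingGroup, Cd.sign_eq_one]; decide +kernel⟩
    let r : alternatingGroup (Fin 5) := ⟨St.κ, by
      rw [mem_alternatingGroup, Cd.sign_eq_one]; decide +kernel⟩
    let W := four p q (Subtype.ext (by decide +kernel)) (Subtype.ext (by decide +kernel))
      (Subtype.ext (by decide +kernel))
    have hW : Nat.card W = 4 := card_four _ _ _ (by rw [Ne, Subtype.ext_iff]; decide +kernel)
      (by rw [Ne, Subtype.ext_iff]; decide +kernel) (by rw [Ne, Subtype.ext_iff]; decide +kernel)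
    have h60 : Nat.card (alternatingGroup (Fin 5)) = 60 := by
      rw [nat_card_alternatingGroup]; simp [Nat.factorial]
    have hWi : W.index = 15 := by have := W.card_mul_index; rw [hW, h60] at this; omega
    have hr : r ∈ normalizer (W : Set (alternatingGroup (Fin 5))) := mem_normalizer_of_le (by
      rintro _ (rfl | rfl | rfl | rfl)
      · simp
      · exact Or.inr (Or.inr (Or.inl (Subtype.ext (by decide +kernel))))
      · exact Or.inr (Or.inr (Or.inr (Subtype.ext (by decide +kernel))))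
      · exact Or.inr (Or.inl (Subtype.ext (by decide +kernel))))
    have hNW : ¬ 3 ∣ (normalizer (W : Set (alternatingGroup (Fin 5)))).index := by
      have h4 := (normalizer (W : Set (alternatingGroup (Fin 5)))).orderOf_dvd_natCard hr
      rw [H53.Odd.orderOf_three (Subtype.ext (by decide +kernel))
        (by rw [Ne, Subtype.ext_iff]; decide +kernel)] at h4
      have h5 := (normalizer (W : Set (alternatingGroup (Fin 5)))).card_mul_index
      intro h6
      have := Nat.mul_dvd_mul h4 h6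
      rw [h5, h60] at this
      omega
    have hP2 : IsPGroup 2 (W.comap ψ) :=
      (IsPGroup.of_card (n := 2) hW).comap_of_ker_isPGroup ψ hk2
    have hPi : (W.comap ψ).index = 15 := by rw [index_comap_of_surjective _ hψ, hWi]
    let P0 : Sylow 2 K := hP2.toSylow (by rw [hPi]; decide)
    obtain ⟨P, hP⟩ := exists_inv_sylow hD hn 2 (by
      rw [P0.card_eq_index_normalizer]
      refine fun h => hNW (h.trans ?_)
      rw [← index_comap_of_surjective _ hψ]
      exact index_dvd_of_le (le_normalizer_comap ψ))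
    have hc : Nat.card P = Nat.card (W.comap ψ) := Nat.card_congr (P.equiv P0).toEquiv
    have hPi' : (P : Subgroup K).index = 15 := by
      have e1 := (P : Subgroup K).card_mul_index
      have e2 := (W.comap ψ).card_mul_index
      rw [hPi, ← hc, ← e1] at e2
      exact (Nat.eq_of_mul_eq_mul_left Nat.card_pos e2).symm
    refine ⟨_, map_subtype_le _, hP, ?_, ?_, fun hle => ?_⟩
    · obtain ⟨n, hn⟩ := (P.isPGroup'.map K.subtype).exists_card_eq
      rw [hn]; exact Nat.Coprime.pow_left n (by norm_num)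
    · rw [relIndex, ← hPi']; congr 1; exact comap_map_eq_self_of_injective Subtype.val_injective _
    · have e1 := (P : Subgroup K).card_mul_index
      have e2 := card_le_of_le hle
      have e3 := card_eq_card_quotient_mul_card_subgroup N
      rw [card_subtype, hV4] at e2
      rw [Nat.card_congr e.toEquiv, h60] at e3
      rw [hPi', hcardK, e3] at e1
      have : 0 < Nat.card N := Nat.card_pos
      omega
  · right; right
    have : Fact (Nat.Prime 7) := ⟨by norm_num⟩
    have h168 : Nat.card K = 7 * 192 := by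
      have := H10.card_PSL_two (F := ZMod 7)
      rw [Nat.card_zmod] at this
      rw [hcardK, Nat.card_congr e.toEquiv]
      have e2 : Nat.gcd 2 (7 - 1) = 2 := rfl
      rw [e2] at this
      omega
    have hc : ∀ P : Sylow 7 K, Nat.card P = 7 := fun P => by
      rw [P.card_eq_multiplicity, h168, show 7 * 192 = 7 ^ 1 * 192 from rfl,
        Nat.factorization_mul (by norm_num) (by norm_num), Finsupp.add_apply,
        Nat.factorization_pow_self (by norm_num), Nat.factorization_eq_zero_of_not_dvd (by norm_num)]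
      rfl
    obtain ⟨P, hP⟩ := exists_inv_sylow hD hn 7 (by
      obtain ⟨P⟩ : Nonempty (Sylow 7 K) := inferInstance
      have e1 := P.card_dvd_index
      have e2 := card_sylow_modEq_one 7 K
      have e3 := (P : Subgroup K).card_mul_index
      rw [hc P, h168] at e3
      rw [show (P : Subgroup K).index = 192 by omega] at e1
      have e4 := Nat.le_of_dvd (by norm_num) e1
      unfold Nat.ModEq at e2
      generalize Nat.card (Sylow 7 K) = n at *
      interval_cases n <;> omega)
    exact ⟨_, map_subtype_le _, hP, by rw [card_subtype, hc P]⟩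

theorem le_of_scD8 {H D K V : Subgroup G} (hD : IsPGroup 3 D) (hn : D ≤ normalizer (K : Set G))
    (hVK : V ≤ K) (hV4 : Nat.card V = 8) (hsq : ∀ v ∈ V, v * v = 1)
    (hcen : ∀ v ∈ V, ∀ k ∈ K, k * v = v * k) {z : G} (hz : z ∈ K) (h3 : z ^ 3 = 1) (h1 : z ≠ 1)
    (hC : ∀ k ∈ K, k * z = z * k → ∃ i : ℕ, k * z ^ i ∈ V) (hzH : z ∈ H) (hu : UFin K H z)
    (hX : ∀ X : Subgroup G, D ≤ normalizer (X : Set G) → (Nat.card X).Coprime 3 → X ≤ H)
    (h7 : ∀ x ∈ H, x ∈ K → x ^ 7 = 1 → x = 1) : K ≤ H := by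
  rcases scD8 hD hn hVK hV4 hsq hcen hz h3 h1 hC with ⟨X, -, a1, a2, a3⟩ | ⟨X, a0, a1, a2, a3, -⟩ |
    ⟨X, a0, a1, a2⟩
  · intro k hk
    refine hu k hk ?_
    rcases a3 k hk with h | h
    · simpa using mul_mem (hX X a1 a2 h) hzH
    · simpa using mul_mem (hX X a1 a2 h) (inv_mem hzH)
  · have e1 := relIndex_dvd_of_le_left K (hX X a1 a2)
    have e2 := relIndex_mod hz hzH h3 hu
    rw [a3] at e1
    have e3 := Nat.le_of_dvd (by norm_num) e1
    unfold Nat.ModEq at e2
    refine relIndex_eq_one.1 ?_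
    generalize H.relIndex K = n at *
    interval_cases n <;> omega
  · exfalso
    have := hX X a1 (by rw [a2]; norm_num)
    have h4 : X = ⊥ := eq_bot_iff.2 fun x hx => h7 x (this hx) (a0 hx)
      (orderOf_dvd_iff_pow_eq_one.1 (a2 ▸ X.orderOf_dvd_natCard hx))
    rw [h4, card_bot] at a2
    omega

end H58.S9
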