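import Cfsg.Agent.Lib.A9.Tab
import Cfsg.Agent.Lib.Odd.P3BF

/-! A model of the group `S₃ ≀ S₃` and of its subgroups containing `3³ : S₃`. -/

set_option autoImplicit false
set_option synthInstance.maxSize 2048
set_option maxRecDepth 100000

namespace H58.S9

open Cfsg H53.Odd H58.N9 Subgroup

abbrev D3 := ZMod 2 × ZMod 2 × ZMod 2
abbrev W2 := D3 × ZMod 3 × ZMod 2
abbrev M2 := V27 × W2

def dg3 (d : D3) (u : V27) : V27 := (sg d.1 u.1, sg d.2.1 u.2.1, sg d.2.2 u.2.2)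

def sw {α : Type} (k : ZMod 2) (u : α × α × α) : α × α × α :=
  if k = 0 then u else (u.2.1, u.1, u.2.2)

def ro {α : Type} (i : ZMod 3) (u : α × α × α) : α × α × α :=
  if i = 0 then u else if i = 1 then (u.2.2, u.1, u.2.1) else (u.2.1, u.2.2, u.1)

def ac (w : W2) (u : V27) : V27 := dg3 w.1 (ro w.2.1 (sw w.2.2 u))

def mw2 (w w' : W2) : W2 :=
  (w.1 + ro w.2.1 (sw w.2.2 w'.1), w.2.1 + sg w.2.2 w'.2.1, w.2.2 + w'.2.2)

def mul2 : M2 → M2 → M2 := sdMul ac mw2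

def pw2 (p : M2) (n : ℕ) : M2 := Nat.rec 0 (fun _ r => mul2 r p) n

def pww (w : W2) (n : ℕ) : W2 := Nat.rec 0 (fun _ r => mw2 r w) n

/-- the four possible diagonal subgroups -/
def xd (c : Fin 4) (d : D3) : Prop :=
  c = 3 ∨ d = 0 ∨ c = 1 ∧ d = (1, 1, 1) ∨ c = 2 ∧ d.1 + d.2.1 + d.2.2 = 0

instance decXd (c : Fin 4) (d : D3) : Decidable (xd c d) := by unfold xd; infer_instance

/-- the vector fixed by `S₃` -/
def x0 : V27 := (1, 1, 1)

theorem ac_mw (w w' : W2) (u : V27) : ac (mw2 w w') u = ac w (ac w' u) := by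
  have h0 : ∀ a b : ZMod 2, ∀ x, sg (a + b) x = sg a (sg b x) := by decide
  have h1 : ∀ d e u, dg3 (d + e) u = dg3 d (dg3 e u) := fun d e u => by simp [dg3, h0]
  have h2 : ∀ i k e u, ro i (sw k (dg3 e u)) = dg3 (ro i (sw k e)) (ro i (sw k u)) := fun i k e u => by
    unfold ro sw; split_ifs <;> rfl
  have h3 : ∀ i k j l, ∀ u : V27, ro (i + sg k j) (sw (k + l) u) = ro i (sw k (ro j (sw l u))) := by
    decide +kernel
  simp only [ac, mw2, h1, h2, h3]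

theorem ac_add (w : W2) (u v : V27) : ac w (u + v) = ac w u + ac w v := by
  have h0 : ∀ a x y, sg a (x + y) = sg a x + sg a y := by decide
  unfold ac ro sw; split_ifs <;> simp [dg3, h0]

theorem ac_zero (u : V27) : ac 0 u = u := by revert u; decide +kernel

theorem ac_inj (w w' : W2) (h : ∀ u, ac w u = ac w' u) : w = w' :=
  (by decide +kernel : ∀ w w', ac w (1, 0, 0) = ac w' (1, 0, 0) → ac w (0, 1, 0) = ac w' (0, 1, 0) →
    ac w (0, 0, 1) = ac w' (0, 0, 1) → w = w') w w' (h _) (h _) (h _)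

theorem mw_zero (w : W2) : mw2 w 0 = w ∧ mw2 0 w = w := by revert w; decide +kernel

theorem xd_mw (c : Fin 4) (w w' : W2) : xd c w.1 → xd c w'.1 → xd c (mw2 w w').1 :=
  (by decide +kernel : ∀ c d e i k, xd c d → xd c e → xd c (d + ro i (sw k e))) c _ _ _ _

theorem xd_zero (c : Fin 4) : xd c 0 := Or.inr (Or.inl rfl)

theorem mul_J (u v : V27) : mul2 (u, 0) (v, 0) = (u + v, 0) := by
  simp only [mul2, sdMul, ac_zero, mw_zero]

theorem mul_cj (r : M2) (u : V27) : mul2 r (u, 0) = mul2 (ac r.2 u, 0) r := by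
  simp only [mul2, sdMul, ac_zero, mw_zero, add_comm]

theorem mul_sp (u : V27) (w : W2) : mul2 (u, 0) (0, w) = (u, w) := by
  have : ac 0 0 = 0 := ac_zero 0
  simp only [mul2, sdMul, this, mw_zero, add_zero]

theorem ac_0 (w : W2) : ac w 0 = 0 := by revert w; decide +kernel

theorem mul_W (w w' : W2) : mul2 (0, w) (0, w') = (0, mw2 w w') := by
  simp only [mul2, sdMul, ac_0, add_zero]

theorem pw_snd (p : M2) : ∀ n, (pw2 p n).2 = pww p.2 n
  | 0 => rfl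
  | n + 1 => congrArg (mw2 · p.2) (pw_snd p n)

theorem kap_ac (w : W2) (u : V27) : kap (ac w u) = kap u := by revert w u; decide +kernel

theorem big0 : ∀ w, pww w 3 = 0 → w ≠ 0 → (∃ c, ∀ y, ac w y = y → ∃ j : Fin 3, y = j.val • c) ∧
    (¬ ∀ y, ac w (ac w y + -y) = ac w y + -y) ∧
    ∀ w', pww w' 3 = 0 → mw2 w w' = mw2 w' w → ∃ i : Fin 3, mw2 w' (pww w i) = 0 := by decide +kernel

/-! ### the dictionary -/

open H53.P3

def cv (k : ℕ) : V27 := (k % 3) • (1, 1, 1) + ((k / 3 % 3) • (2, 2, 1) + (k / 9) • (2, 1, 0))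

def tw (b : ZMod 3) (u : V27) : V27 :=
  u + (b * (u.1 + u.2.1 + u.2.2), b * (u.1 + u.2.1 + u.2.2), b * (u.1 + u.2.1 + u.2.2))

def Lb (b : ZMod 3) : List ℕ := if b = 0 then Y48 else if b = 1 then [3012, 3021, 3090, 3099, 5928, 5937, 6006, 6015, 6643, 6647, 6725, 6730, 7751, 7764, 7885, 7905, 8371, 8382, 8723, 8745, 10564, 10572, 10913, 10929, 12128, 12135, 12265, 12282, 13204, 13208, 13286, 13291, 14203, 14214, 14555, 14577, 15041, 15054, 15175, 15195, 17231, 17238, 17368, 17385, 18583, 18591, 18932, 18948]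
  else [2444, 2446, 2696, 2698, 4631, 4633, 4883, 4885, 6643, 6650, 6725, 6727, 7751, 7772, 7885, 7900, 8371, 8395, 8723, 8735, 9782, 9797, 9994, 10006, 12667, 12688, 12941, 12947, 13204, 13211, 13286, 13288, 14203, 14227, 14555, 14567, 15041, 15062, 15175, 15190, 16312, 16333, 16586, 16592, 19259, 19274, 19471, 19483]

theorem cv_ad : ∀ k < 27, ∀ l < 27, ad k l < 27 ∧ cv (ad k l) = cv k + cv l := by decide +kernel

theorem cv_sm : ∀ i < 3, ∀ k < 27, H53.P3.sm i k < 27 ∧ cv (H53.P3.sm i k) = i • cv k := by decide +kernel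

theorem cv_surj : ∀ u, ∃ k < 27, cv k = u := by decide +kernel

theorem cv_inj : ∀ k < 27, ∀ l < 27, cv k = cv l → k = l := by decide +kernel

theorem lb1 : ∀ m ∈ Y48 ++ Y72, ∃ b, m ∈ Lb b := by decide +kernel

theorem lb2 : ∀ b, ∀ m ∈ Lb b, ∃ w, ∀ k < 27, cv (lin m k) = tw b (ac w (tw (-b) (cv k))) := by
  decide +kernel

theorem lb3 {m m' : ℕ} (h1 : m ∈ Y48 ++ Y72) (h2 : m' ∈ Y48 ++ Y72)
    (h3 : pk (fun k => lin m (lin m' k)) ∈ Y48 ++ Y72) : ∃ b, m ∈ Lb b ∧ m' ∈ Lb b := by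
  have mem : ∀ m L, H54.anyL (Nat.beq m) L = true ↔ m ∈ L := fun m L => by simp [H54.anyL_iff]
  have : H54.allL (fun m => H54.allL (fun m' => H54.bor (H54.anyL (fun b => H54.band
      (H54.anyL (Nat.beq m) (Lb b)) (H54.anyL (Nat.beq m') (Lb b))) [0, 1, 2])
      (H54.force (pk (fun k => lin m (lin m' k))) fun n => H54.bnot (H54.anyL (Nat.beq n) (Y48 ++ Y72))))
      (Y48 ++ Y72)) (Y48 ++ Y72) = true := by decide +kernel
  simp only [H54.allL_iff, H54.bor_eq_true, H54.force_eq, H54.bnot_eq_true, mem] at this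
  obtain ⟨b, -, e⟩ := (H54.anyL_iff _ _).1 ((this m h1 m' h2).resolve_right fun e => e h3)
  exact ⟨b, by simpa only [H54.band_eq_true, mem] using e⟩

theorem lb4 : ∀ b, ∀ m ∈ Lb b, ∀ b', m ∈ Lb b' → b = b' ∨ ∀ c, m ∈ Lb c := by decide +kernel

theorem cls (P : D3 → Prop) (h0 : P 0) (h1 : ∀ d e, P d → P e → P (d + e))
    (h2 : ∀ d, P d → P (ro 1 d)) : ∃ c, ∀ d, P d ↔ xd c d := by
  have key : ∀ d : D3, d = 0 ∨ d = (1, 0, 0) ∨ d = (0, 1, 0) ∨ d = (0, 0, 1) ∨ d = (1, 1, 0) ∨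
    d = (0, 1, 1) ∨ d = (1, 0, 1) ∨ d = (1, 1, 1) := by decide
  have r1 : P (1, 0, 0) → P (0, 1, 0) := h2 _
  have r2 : P (0, 1, 0) → P (0, 0, 1) := h2 _
  have r3 : P (0, 0, 1) → P (1, 0, 0) := h2 _
  have r4 : P (1, 1, 0) → P (0, 1, 1) := h2 _
  have r5 : P (0, 1, 1) → P (1, 0, 1) := h2 _
  have r6 : P (1, 0, 1) → P (1, 1, 0) := h2 _
  have a1 : P (1, 0, 0) → P (0, 1, 0) → P (1, 1, 0) := h1 _ _
  have a2 : P (1, 1, 0) → P (0, 0, 1) → P (1, 1, 1) := h1 _ _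
  have a3 : P (1, 1, 0) → P (1, 1, 1) → P (0, 0, 1) := h1 _ _
  have fin : ∀ c : Fin 4, (P (1, 0, 0) ↔ c = 3) → (P (1, 1, 0) ↔ 2 ≤ c) →
      (P (1, 1, 1) ↔ c.val % 2 = 1) → ∃ c, ∀ d, P d ↔ xd c d := fun c e1 e2 e3 => by
    have e4 : P (0, 1, 0) ↔ c = 3 := (Iff.intro (r3 ∘ r2) r1).trans e1
    have e5 : P (0, 0, 1) ↔ c = 3 := (Iff.intro r3 (r2 ∘ r1)).trans e1
    have e6 : P (0, 1, 1) ↔ 2 ≤ c := (Iff.intro (r6 ∘ r5) r4).trans e2
    have e7 : P (1, 0, 1) ↔ 2 ≤ c := (Iff.intro r6 (r5 ∘ r4)).trans e2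
    refine ⟨c, fun d => ?_⟩
    rcases key d with rfl | rfl | rfl | rfl | rfl | rfl | rfl | rfl
    · exact iff_of_true h0 (xd_zero c)
    all_goals simp only [e1, e2, e3, e4, e5, e6, e7]; clear * -; revert c; decide
  by_cases c3 : P (1, 0, 0)
  · have := a1 c3 (r1 c3)
    exact fin 3 (by simp [c3]) (by simp [this]) (by simp [a2 this (r2 (r1 c3))])
  by_cases c2 : P (1, 1, 0)
  · exact fin 2 (by simp [c3]) (by simp [c2]) (iff_of_false (fun e => c3 (r3 (a3 c2 e))) (by decide))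
  by_cases c1 : P (1, 1, 1)
  · exact fin 1 (by simp [c3]) (by simp [c2]) (by simp [c1])
  · exact fin 0 (by simp [c3]) (by simp [c2]) (by simp [c1])

end H58.S9
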