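import Cfsg.Agent.Lib.Sym9.Loc
import Cfsg.Agent.Lib.Sym9.ScD8
import Cfsg.Agent.Lib.A9.Good

/-! The class of transpositions. -/

set_option autoImplicit false
set_option synthInstance.maxSize 2048

namespace H58.S9

open Equiv Equiv.Perm H58.Cd H58.SE H53.Odd H58.N9 Subgroup

theorem nz2_iff {e q : P9} : nz2 e q ↔ (cm 9 (code q) (code e) = cm 9 (code e) (code q) ∨
      cm 9 (code e) (cm 9 (code q) (code e)) = code q) := by
  refine or_congr ?_ ?_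
  · rw [mul_inv_eq_iff_eq_mul, Cd.eq_iff, code_mul, code_mul]
  · rw [mul_inv_eq_iff_eq_mul, eq_inv_mul_iff_mul_eq, Cd.eq_iff, code_mul, code_mul]

theorem y1 {q : P9} (h : q * a0 = a0 * q) : nz2 e3 q → q ^ 3 = 1 → q = 1 ∨ q = e3 ∨ q = e3⁻¹ := by
  simp only [nz2_iff, Cd.eq_iff (n := 9), code_pow, code_inv]
  refine fc 9 _ (code q) ⟨a0, q, rfl, rfl, h⟩ ?_
  decide +kernel

def tt (i : Fin 4) : P9 := if i = 0 then swap 0 3 else if i = 1 then swap 1 4 else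
  if i = 2 then swap 2 5 else T3

def vE (d : D3) : P9 := tt 0 ^ d.1.val * tt 1 ^ d.2.1.val * tt 2 ^ d.2.2.val

theorem y2 {q : P9} (h : q * tt 0 = tt 0 * q) : q * tt 1 = tt 1 * q → q * tt 2 = tt 2 * q →
    (q ^ 3 = 1 → q = 1 ∨ q = e3 ∨ q = e3⁻¹) ∧ (q ^ 7 = 1 → q = 1) ∧
      (q * e3 = e3 * q → ∃ i : Fin 3, ∃ d, vE d = q * e3 ^ i.val) := by
  simp only [vE, Cd.eq_iff (n := 9), code_mul, code_pow, code_inv]
  refine fc 9 _ (code q) ⟨tt 0, q, rfl, rfl, h⟩ ?_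
  decide +kernel

theorem cm6 (p : P6) {s : P9} (hs : ∀ x : Fin 9, x.val < 6 → s x = x) : Commute (ι6 p) s :=
  Perm.Disjoint.commute fun x => if h : x.val < 6 then Or.inr (hs x h) else
    Or.inl (extendDomain_apply_not_subtype _ _ h)

def r6 (a : Fin 4) : P6 := if a = 0 then 1 else if a = 1 then swap 3 4 else
  if a = 2 then swap 0 1 * swap 3 4 else swap 0 3 * swap 1 4 * swap 2 5

theorem invS {q : P9} (h : nz2 e3 q) (h2 : q * q = 1) :
    ∃ k, nz2 e3 k ∧ ∃ r, k * pm2 (0, r) * k⁻¹ = q := by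
  obtain ⟨⟨i, ε, δ⟩, k, -, hk⟩ := dec2 h
  obtain ⟨s, e, hs, hs'⟩ : ∃ s, pm2 (τ2 (i, ε, δ)) = ι6 (swap 3 4 ^ δ.val) * s ∧
      (∀ x : Fin 9, x.val < 6 → s x = x) ∧ ((s * s) 6 = 6 → ∃ j : Fin 3, ∃ ε : Fin 2,
        s = e3 ^ j.val * T3 ^ ε.val * (e3 ^ j.val)⁻¹) :=
    ⟨e3 ^ i.val * T3 ^ ε.val, by clear * -; revert i ε δ; decide +kernel⟩
  rw [eq_mul_inv_iff_mul_eq, e, ← mul_assoc, ← map_mul] at hk
  generalize k * swap 3 4 ^ δ.val = p at hk
  subst hk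
  rw [← pow_two, (cm6 p hs).mul_pow, ← map_pow, pow_two s, mul_eq_one_iff_inv_eq, ← map_inv] at h2
  obtain ⟨j, ε, rfl⟩ := hs' (h2 ▸ extendDomain_apply_not_subtype _ _ (by decide))
  have p2 : p ^ 2 = 1 := inv_eq_one.1 (ι6_inj (h2.trans (by clear * -; revert j ε; decide +kernel)))
  obtain ⟨a, ha⟩ : ∃ a : Fin 4, p.support.card = 2 * a := by
    obtain ⟨a, ha⟩ := two_dvd_card_support p2
    have : p.support.card ≤ 6 := by simpa using p.support.card_le_univ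
    exact ⟨⟨a, by omega⟩, ha⟩
  obtain ⟨a1, a2, r, a3⟩ := (by decide +kernel : ∀ (a : Fin 4) (ε : Fin 2), r6 a * r6 a = 1 ∧
    (r6 a).support.card = 2 * a ∧ ∃ r, pm2 (0, r) = ι6 (r6 a) * T3 ^ ε.val) a ε
  obtain ⟨k, rfl⟩ := isConj_iff.1 (S8.isConj_of_invol a1 ((pow_two p).symm.trans p2) (a2.trans ha.symm))
  have c1 := cm6 k (s := e3) (by decide +kernel)
  have c2 := (cm6 (r6 a) (s := e3) (by decide +kernel)).pow_right j
  have c3 := cm6 k⁻¹ (s := e3 ^ j.val * T3 ^ ε.val * (e3 ^ j.val)⁻¹) hs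
  refine ⟨ι6 k * e3 ^ j.val, Or.inl (mul_inv_eq_iff_eq_mul.2
    (c1.mul_left ((Commute.refl _).pow_left _))), r, ?_⟩
  rw [a3, map_mul, map_mul, mul_assoc (ι6 k * ι6 (r6 a)), c3.eq, map_inv, mul_assoc (ι6 k),
    ← mul_assoc (e3 ^ j.val), ← c2.eq]
  group

variable {G : Type*} [Group G] [Finite G] {J : Subgroup G} {φ : M2 → G} {m : PH P9 G}

theorem cenE (hm : ∀ {q}, nz2 e3 q → q ∈ m.S)
    (hu : ∀ g, g * m.f e3 * g⁻¹ = m.f e3 ∨ g * m.f e3 * g⁻¹ = (m.f e3)⁻¹ → g ∈ m.range)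
    (hX : ∀ X : Subgroup G, m.f (e1 * e2) ∈ normalizer (X : Set G) → m.f e3 ∈ normalizer (X : Set G) →
      (Nat.card X).Coprime 3 → X ≤ m.range) {g : G}
    (hg : ∀ i : Fin 3, g * m.f (tt i.castSucc) = m.f (tt i.castSucc) * g) : g ∈ m.range := by
  have mt : ∀ i : Fin 4, tt i ∈ m.S := fun i => hm (by revert i; decide +kernel)
  have mv : ∀ d, vE d ∈ m.S := fun d => hm (by revert d; decide +kernel)
  have he : e3 ∈ m.S := hm (by decide +kernel)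
  have hy : e1 * e2 ∈ m.S := hm (by decide +kernel)
  let K : Subgroup G := centralizer (Set.range fun i : Fin 3 => m.f (tt i.castSucc))
  have hK : ∀ {g}, g ∈ K ↔ ∀ i : Fin 3, g * m.f (tt i.castSucc) = m.f (tt i.castSucc) * g := by
    simp [K, mem_centralizer_iff, eq_comm]
  have hK' : ∀ {q}, q ∈ m.S → (m.f q ∈ K ↔ ∀ i : Fin 3, q * tt i.castSucc = tt i.castSucc * q) :=
    fun hq => hK.trans (forall_congr' fun i => m.comm_iff hq (mt _))
  have tab : ∀ q ∈ m.S, m.f q ∈ K → _ := fun q hq e =>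
    y2 ((hK' hq).1 e 0) ((hK' hq).1 e 1) ((hK' hq).1 e 2)
  have hA : AH fun d => m.f (vE d) := fun d d' => by
    beta_reduce; rw [← m.mul (mv _) (mv _)]; congr 1; revert d d'; decide +kernel
  have x3 : m.f e3 ^ 3 = 1 := (m.pow_eq_one_iff he 3).2 (by decide +kernel)
  have y3 : m.f (e1 * e2) ^ 3 = 1 := (m.pow_eq_one_iff hy 3).2 (by decide +kernel)
  have xy : m.f (e1 * e2) * m.f e3 = m.f e3 * m.f (e1 * e2) := (m.comm_iff hy he).2 (by decide +kernel)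
  have x1 : m.f e3 ≠ 1 := (m.eq_one_iff he).not.2 (by decide +kernel)
  have hx : m.f e3 ∈ K := (hK' he).2 (by decide +kernel)
  have hD := AH_f9 y3 x3 xy
  refine le_of_scD8 (D := hD.hom.range) (K := K) (V := hA.hom.range) ?_ ?_ ?_ ?_ ?_ ?_ hx x3 x1
    (fun k hk e => ?_) (m.f_mem he) (fun k hk e => hu k ?_) (fun X a b => hX X
      (a ⟨Multiplicative.ofAdd (1, 0), f9_10 _ _⟩) (a ⟨Multiplicative.ofAdd (0, 1), f9_01 _ _⟩) b)
    (fun x hx hx' e => ?_) (hK.2 hg)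
  · rintro ⟨_, u, rfl⟩
    exact ⟨1, Subtype.ext (by
      rw [Subgroup.coe_pow, ← map_pow, show u ^ 3 ^ 1 = 1 by revert u; decide, map_one]; rfl)⟩
  · rintro _ ⟨u, rfl⟩
    refine mul_mem (pow_mem (mem_normalizer_of_le fun k hk => hK.2 fun i => ?_) _)
      (pow_mem (le_normalizer hx) _)
    obtain ⟨j, e⟩ := (by decide +kernel : ∀ i : Fin 3, ∃ j : Fin 3,
      e1 * e2 * tt j.castSucc * (e1 * e2)⁻¹ = tt i.castSucc) i
    rw [← e, m.conj hy (mt _)]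
    exact SE.conj_comm (hK.1 hk j)
  · rintro _ ⟨d, rfl⟩
    exact (hK' (mv _)).2 (by revert d; decide +kernel)
  · rw [← Nat.card_congr (MonoidHom.ofInjective (f := hA.hom) fun d d' e =>
      (by decide +kernel : ∀ d d', vE d = vE d' → d = d') _ _ (m.inj (mv _) (mv _) e)).toEquiv]
    simp
  · rintro _ ⟨d, rfl⟩
    rw [← map_mul, show d * d = 1 by revert d; decide, map_one]
  · rintro _ ⟨d, rfl⟩ k hk
    change k * m.f (vE _) = m.f (vE _) * k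
    rw [vE, m.mul (mul_mem (pow_mem (mt _) _) (pow_mem (mt _) _)) (pow_mem (mt _) _),
      m.mul (pow_mem (mt _) _) (pow_mem (mt _) _), m.pow (mt _), m.pow (mt _), m.pow (mt _)]
    exact ((Commute.pow_right (hK.1 hk 0) _).mul_right (Commute.pow_right (hK.1 hk 1) _)).mul_right
      (Commute.pow_right (hK.1 hk 2) _)
  · obtain ⟨q, hq, rfl⟩ := m.mem_range.1 (hu k (Or.inl (mul_inv_eq_iff_eq_mul.2 e)))
    obtain ⟨i, d, f⟩ := (tab q hq hk).2.2 ((m.comm_iff hq he).1 e)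
    exact ⟨i, d, by rw [← m.pow he, ← m.mul hq (pow_mem he _), ← f]; rfl⟩
  · obtain ⟨q, hq, f⟩ := m.mem_range.1 e
    rcases (tab q hq (f ▸ mul_mem (mul_mem hk hx) (inv_mem hk))).1
      ((m.pow_eq_one_iff hq 3).1 (f ▸ conj_cube x3)) with rfl | rfl | rfl
    · exact absurd (f.symm.trans m.one) (conj_ne_one x1)
    · exact Or.inl f.symm
    · exact Or.inr (f.symm.trans (m.inv he))
  · obtain ⟨q, hq, rfl⟩ := m.mem_range.1 hx
    exact (m.eq_one_iff hq).2 ((tab q hq hx').2.1 ((m.pow_eq_one_iff hq 7).1 e))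

theorem St.c2 (h : St 3 J φ) {u : V27} (hu : 2 ≤ kap u) {g : G} (hg : g * φ (u, 0) = φ (u, 0) * g) :
    g ∈ NJ J := h.cen (by rintro rfl; exact absurd hu (by decide)) (fun _ e => by omega) hg

theorem St.u2 (h : St 3 J φ) {u : V27} (hu : kap u = 2) : UF (NJ J) (φ (u, 0)) :=
  h.ufJ (by omega) fun v e g => h.c2 (by omega)

theorem St.nn (h : St 3 J φ) (g : G) : g * φ (0, we) * g⁻¹ ≠ φ (0, wn) := fun e => by
  have a := h.aW (w := we) (h.x3 _)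
  have b := h.aW (w := (0, 1, 0)) (h.x3 _)
  obtain ⟨k, hk, f⟩ := exists_conj_mem (p := 3) (K := centralizer {φ (0, we)}) (H := NJ J)
    (x := φ ((1, 1, 0), 0)) (x' := g⁻¹ * φ (0, 0, 1, 0) * g⁻¹⁻¹)
    (mem_centralizer_singleton_iff.2 ((h.fix a).2 (by decide)).symm) (le_normalizer (h.mJ _))
    (h.cube _) ((h.u2 (by decide)).ufin _) (mem_centralizer_singleton_iff.2 (SE.comm_of_conj (g := g)
      (by rw [e]; simpa [mul_assoc] using h.cmW (w := (0, 1, 0)) (w' := wn) (h.x3 _) (h.x3 _) (by decide))))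
    (conj_cube ((h.pw1 (h.x3 _)).2 (by decide)))
  obtain ⟨w, -, d⟩ := h.ex f
  have c1 : k * (g⁻¹ * φ (0, 0, 1, 0) * g⁻¹⁻¹) * k⁻¹ * φ (0, we) =
      φ (0, we) * (k * (g⁻¹ * φ (0, 0, 1, 0) * g⁻¹⁻¹) * k⁻¹) := by
    nth_rewrite 1 [← mul_inv_eq_iff_eq_mul.2 (mem_centralizer_singleton_iff.1 hk)]
    nth_rewrite 2 [← mul_inv_eq_iff_eq_mul.2 (mem_centralizer_singleton_iff.1 hk)]
    exact SE.conj_comm (SE.comm_of_conj (g := g) (by
      rw [e]; simpa [mul_assoc] using h.cmW (w := (0, 1, 0)) (w' := wn) (h.x3 _) (h.x3 _) (by decide)))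
  obtain ⟨u, hu⟩ := (h.memJ _).1 (h.memJ3 d ⟨1, conj_cube (conj_cube ((h.pw1 (h.x3 _)).2 (by decide)))⟩
    ((by decide +kernel : ∀ w, mw2 w we = mw2 we w → pww w 4 = 0) w (h.cmA d a c1)))
  have e1 : g * k⁻¹ * φ (u, 0) * (g * k⁻¹)⁻¹ = φ (0, 0, 1, 0) := by rw [hu]; group
  obtain ⟨v, hv⟩ := (h.memJ _).1 (h.scJ ((by decide +kernel : ∀ u, ac we u = u → kap u ≠ 3) u
    ((h.fix a).1 (hu ▸ c1).symm)) (e1 ▸ h.mW (h.x3 _)))
  exact absurd (h.inj _ _ (h.x3 _) (h.x3 _) (hv.trans e1)) (by simp [Prod.ext_iff])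

namespace Lc2

variable (l : Lc2 φ m e3)
include l

omit [Finite G] in
theorem fx : m.f e3 = φ (rep 1, 0) := l.ag' _ (by decide +kernel)

theorem cen (h : St 3 J φ) {g : G}
    (hg : ∀ i : Fin 3, g * m.f (tt i.castSucc) = m.f (tt i.castSucc) * g) : g ∈ m.range := by
  refine cenE l.S.2 l.rng (fun X a b hX y hy => l.rng y (Or.inl (mul_inv_eq_iff_eq_mul.2 ?_))) hg
  rw [l.ag' ((1, 1, 0), 0) (by decide +kernel)] at a
  rw [l.fx] at b ⊢
  have hD := AH_f9 (h.cube (1, 1, 0)) (h.cube (rep 1)) (h.JJ _ _)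
  have hJ : hD.hom.range ≤ J := by
    rintro _ ⟨u, rfl⟩; exact mul_mem (pow_mem (h.mJ _) _) (pow_mem (h.mJ _) _)
  refine mem_centralizer_singleton_iff.1 (H2.le_of_forall_centralizer_le (A := hD.hom.range)
    ⟨⟨fun x y => Subtype.ext (h.commJ (hJ x.2) (hJ y.2))⟩⟩
    (not_cyc (fun d hd => h.cubeJ (hJ hd)) (a := φ (rep 1, 0)) (b := φ ((1, 1, 0), 0))
      ⟨Multiplicative.ofAdd (0, 1), f9_01 _ _⟩ ⟨Multiplicative.ofAdd (1, 0), f9_10 _ _⟩
      (h.ne (by decide)) (by rw [← h.neg, ← h.one, h.injJ, h.injJ, h.injJ]; decide))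
    (by rintro _ ⟨u, rfl⟩; exact mul_mem (pow_mem a _) (pow_mem b _))
    (by obtain ⟨n, hn⟩ := (h.pg.to_le hJ).exists_card_eq
        rw [hn]; exact (Nat.Coprime.pow_right n hX).symm) ?_ hy)
  rintro _ ⟨u, rfl⟩ u1 y ⟨hy, e⟩
  replace e := mem_centralizer_singleton_iff.1 e
  change f9 _ _ u.toAdd ≠ 1 at u1
  change y * f9 _ _ u.toAdd = f9 _ _ u.toAdd * y at e
  rw [h.f9J] at e u1
  rw [mem_centralizer_singleton_iff]
  rcases (by decide +kernel : ∀ u : V9, ∀ v, v = u.1.val • ((1, 1, 0) : V27) + u.2.val • rep 1 →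
    v = 0 ∨ 2 ≤ kap v ∨ v = rep 1 ∨ v = -rep 1) u.toAdd _ rfl with f | f | f | f
  · exact absurd (f ▸ h.one) u1
  · have := St.eq_one_of_cube hX (show y * φ (rep 1, 0) * y⁻¹ * (φ (rep 1, 0))⁻¹ ∈ X by
      simpa [mul_assoc] using mul_mem hy ((mem_normalizer_iff.1 b _).1 (inv_mem hy)))
      (h.cubeJ (mul_mem ((mem_normalizer_iff.1 (h.c2 f e) _).1 (h.mJ _)) (inv_mem (h.mJ _))))
    rwa [mul_inv_eq_one, mul_inv_eq_iff_eq_mul] at this
  · exact f ▸ e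
  · rw [f, h.neg] at e
    simpa using (Commute.inv_right e).eq

theorem nv (h : St 3 J φ) (g : G) : g * φ (0, we) * g⁻¹ ≠ φ (0, wv) := fun e => by
  have ha : a0 ∈ m.S := l.S.2 (by decide +kernel)
  have he : e3 ∈ m.S := l.S.2 (by decide +kernel)
  rw [← l.ag' (q := a0) (0, wv) (by decide +kernel)] at e
  have three : ∀ z ∈ m.range, z ∈ centralizer {m.f a0} → z ^ 3 = 1 →
      z = 1 ∨ z = m.f e3 ∨ z = (m.f e3)⁻¹ := fun z hz hc h3 => by
    obtain ⟨q, hq, rfl⟩ := m.mem_range.1 hz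
    rcases y1 ((m.comm_iff hq ha).1 (mem_centralizer_singleton_iff.1 hc)) (l.S.1 hq)
      ((m.pow_eq_one_iff hq 3).1 h3) with rfl | rfl | rfl
    exacts [Or.inl m.one, Or.inr (Or.inl rfl), Or.inr (Or.inr (m.inv he))]
  have c0 : m.f e3 ∈ centralizer {m.f a0} :=
    mem_centralizer_singleton_iff.2 ((m.comm_iff he ha).2 (by decide +kernel))
  have c1 : g * φ ((1, 1, 0), 0) * g⁻¹ ∈ centralizer {m.f a0} := mem_centralizer_singleton_iff.2
    (e ▸ SE.conj_comm ((h.fix (h.aW (h.x3 _))).2 (by decide)).symm)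
  have x3 : m.f e3 ^ 3 = 1 := l.fx ▸ h.cube _
  obtain ⟨k, hk, hk'⟩ := exists_conj_mem (p := 3) c0 (m.f_mem he) x3
    (fun g hg f => l.rng g ((three _ f (mul_mem (mul_mem hg c0) (inv_mem hg)) (conj_cube x3)).resolve_left
      (conj_ne_one (l.fx ▸ h.ne (by decide))))) c1 (conj_cube (h.cube _))
  have := three _ hk' (mul_mem (mul_mem hk c1) (inv_mem hk)) (conj_cube (conj_cube (h.cube _)))
  rw [l.fx, ← h.neg, ← h.one, show k * (g * φ ((1, 1, 0), 0) * g⁻¹) * k⁻¹ =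
    k * g * φ ((1, 1, 0), 0) * (k * g)⁻¹ by group] at this
  rcases this with e | e | e <;> exact absurd (h.kap_eq e) (by decide)

theorem typ (h : St 3 J φ) {q : P9} (hq : q ∈ m.S) (e : IsConj (φ (0, we)) (m.f q)) : q.IsSwap := by
  obtain ⟨g, e⟩ := isConj_iff.1 e
  have t2 := conj_sq (g := g) (h.sqW (w := we) (h.x3 _) (by decide))
  have t1 := conj_ne_one (g := g) (h.ne1 (w := we) (h.x3 _) (by decide))
  obtain ⟨k, hk, r, rfl⟩ := invS (l.S.1 hq) ((m.mul_eq_one_iff hq hq).1 (e ▸ t2))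
  have hk' := l.S.2 hk
  have hr : pm2 (0, r) ∈ m.S := by simpa [mul_assoc] using mul_mem (mul_mem (inv_mem hk') hq) hk'
  rw [m.conj hk' hr, l.ag _ hr] at e
  rw [e] at t1 t2
  obtain ⟨x, hx, s, hs, -, f⟩ := h.inv_cls (h.mW (w := r) (h.x3 _))
    (by simpa [mul_assoc] using conj_sq (g := (m.f k)⁻¹) t2) (by simpa using t1)
  have e' : x⁻¹ * (m.f k)⁻¹ * g * φ (0, we) * (x⁻¹ * (m.f k)⁻¹ * g)⁻¹ = φ (0, s) := by
    calc _ = x⁻¹ * (m.f k)⁻¹ * (g * φ (0, we) * g⁻¹) * m.f k * x := by group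
      _ = _ := by rw [e, ← f]; group
  simp only [List.mem_cons, List.not_mem_nil, or_false] at hs
  have u := h.u2 (u := (1, 1, 0)) (by decide)
  rcases hs with rfl | rfl | rfl | rfl | rfl
  · obtain ⟨w, -, f⟩ := h.conjW (h.x3 _) (h.x3 _) hx f
    rw [← card_support_eq_two, card_support_conj]
    rcases (by decide +kernel : ∀ w r, mw2 w we = mw2 r w → r = we ∨ r = ((1, 0, 0), 0, 0) ∨
      r = ((0, 1, 0), 0, 0)) w r f with rfl | rfl | rfl <;> decide +kernel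
  · exact absurd e' (l.nv h _)
  · exact absurd e' (h.nn _)
  · exact absurd e' (h.nconj u u (by decide +kernel) _)
  · exact absurd e' (h.nconj u (h.u2 (u := (1, 2, 0)) (by decide)) (by decide +kernel) _)

end Lc2

end H58.S9
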